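import Cfsg.Agent.H223.J3Pron.Main
import Cfsg.Agent.H898.J3Cent
import Cfsg.Agent.KFacts.J3

/-!
# S2527: the row of `J₃` (helper223)
-/

set_option autoImplicit false

namespace Cfsg.Agent.H223.J3Pron

open Subgroup Cfsg.Agent.J2Type.Model Cfsg.Agent.J2Type.CStruct Cfsg.Agent.J2Type.SPFacts
open Cfsg.Agent.H408.Pron

universe u

theorem dvd_form {m : ℕ} (h : m ∣ 392445) : ∃ i < 6, ∃ a < 2, ∃ b < 2, ∃ c < 2, m = 3 ^ i * 5 ^ a * 17 ^ b * 19 ^ c := by
  rw [show 392445 = 3 ^ 5 * (5 ^ 1 * (17 ^ 1 * 19 ^ 1)) by norm_num] at h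
  obtain ⟨m1, m2, h1, h2, rfl⟩ := (Nat.dvd_mul).1 h
  obtain ⟨m3, m4, h3, h4, rfl⟩ := (Nat.dvd_mul).1 h2
  obtain ⟨m5, m6, h5, h6, rfl⟩ := (Nat.dvd_mul).1 h4
  obtain ⟨i, hi, rfl⟩ := (Nat.dvd_prime_pow (by norm_num : Nat.Prime 3)).1 h1
  obtain ⟨a, ha, rfl⟩ := (Nat.dvd_prime_pow (by norm_num : Nat.Prime 5)).1 h3
  obtain ⟨b, hb, rfl⟩ := (Nat.dvd_prime_pow (by norm_num : Nat.Prime 17)).1 h5
  obtain ⟨c, hc, rfl⟩ := (Nat.dvd_prime_pow (by norm_num : Nat.Prime 19)).1 h6
  exact ⟨i, by omega, a, by omega, b, by omega, c, by omega, by ring⟩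

theorem mod64 {m : ℕ} (h : m ∣ 392445) (hm : m % 64 = 3) : m = 3 ∨ m = 323 ∨ m = 1539 := by
  obtain ⟨i, hi, a, ha, b, hb, c, hc, rfl⟩ := dvd_form h
  revert hm
  interval_cases i <;> interval_cases a <;> interval_cases b <;> interval_cases c <;> decide

theorem mod16 {m : ℕ} (h : m ∣ 392445) (hm : m % 16 = 11) (h15 : 15 ∣ m) : False := by
  obtain ⟨i, hi, a, ha, b, hb, c, hc, rfl⟩ := dvd_form h
  revert hm h15
  interval_cases i <;> interval_cases a <;> interval_cases b <;> interval_cases c <;> decide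

/-- Sylow's theorem for the prime 19 in the subgroups of `J₃` -/
theorem nineteen {K : Type u} [Group K] [Finite K] (h : Cfsg.Spor.IsoJ3 K) {H : Subgroup K} {m : ℕ}
    (hm : Nat.card H = 19 * m) (hm0 : ¬ 19 ∣ m) : ∃ n k, n % 19 = 1 ∧ k ∣ 18 ∧ k * n = m := by
  have f19 : Fact (Nat.Prime 19) := ⟨by norm_num⟩
  obtain ⟨y, hy⟩ := exists_prime_orderOf_dvd_card' (G := H) 19 ⟨m, hm⟩
  have hsq : ¬ 19 ^ 2 ∣ Nat.card H := by
    rw [hm, pow_two]
    intro h1
    exact hm0 ((Nat.mul_dvd_mul_iff_left (by norm_num)).1 h1)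
  obtain ⟨n, k, hn, hk, h1, -⟩ := Cfsg.Agent.H836.Sylow.card_normalizer (G := H) (p := 19) (X := zpowers y)
    (by norm_num) hsq (by rw [Nat.card_zpowers, hy])
  have hcz : centralizer ((zpowers y : Subgroup H) : Set H) = centralizer ({y} : Set H) := by
    rw [zpowers_eq_closure, centralizer_closure]
  rw [hcz] at h1
  have hyK : orderOf (y : K) = 19 := by rw [Subgroup.orderOf_coe, hy]
  have hc : Nat.card (centralizer ({y} : Set H)) = 19 := by
    have h2 := Cfsg.Agent.H898.J3Cent.card_nineteen h hyK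
    have h3 : (centralizer ({y} : Set H)).map H.subtype ≤ centralizer ({(y : K)} : Set K) := by
      rintro _ ⟨x, hx, rfl⟩
      exact mem_centralizer_singleton_iff.2 (congrArg Subtype.val (mem_centralizer_singleton_iff.1 hx))
    have h4 := Subgroup.card_dvd_of_le h3
    rw [Subgroup.card_map_of_injective (Subgroup.subtype_injective _), h2] at h4
    have h5 : orderOf y ∣ Nat.card (centralizer ({y} : Set H)) :=
      Subgroup.orderOf_dvd_natCard _ (mem_centralizer_singleton_iff.2 rfl)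
    rw [hy] at h5
    exact Nat.dvd_antisymm h4 h5
  rw [hc, hm] at h1
  refine ⟨n, k, hn, hk, ?_⟩
  have h2 : 19 * (k * n) = 19 * m := by rw [← mul_assoc, ← h1]
  exact Nat.eq_of_mul_eq_mul_left (by norm_num) h2

/-- **S2527, the row `J₃`.** -/
theorem po_j3 {K : Type u} [Group K] [Finite K] [IsSimpleGroup K] (h : Cfsg.Spor.IsoJ3 K) : PO K := by
  obtain ⟨-, z, Q, v, ρ, n, u, F⟩ := Cfsg.Agent.KFacts.J3.exists_facts h
  obtain ⟨k, f, hf, hf2, -⟩ := exists_x0 F.model F.u_sq F.u_not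
  obtain ⟨w, hw⟩ := (F.model.range g3).2 g3_E
  have L : Loc z Q v ρ f w :=
    { M := F.model
      hf := hf
      hf2 := hf2
      hw := hw
      card_C := F.card_C
      hv := by
        apply F.one
        · intro h1
          apply v_ne_one F.model 4 0
          rw [zp_zero, one_mul]
          exact Subtype.ext h1
        · exact congrArg Subtype.val (F.model.v_sq 4) }
  have hdvd : ∀ (H : Subgroup K) (m : ℕ), Nat.card H = 128 * m → m ∣ 392445 := by
    intro H m hm
    have h1 : Nat.card H ∣ Nat.card K := Subgroup.card_subgroup_dvd_card H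
    rw [hm, F.card_K, show 50232960 = 128 * 392445 by norm_num] at h1
    exact (Nat.mul_dvd_mul_iff_left (by norm_num)).1 h1
  refine L.po (by rw [F.card_K]; norm_num) ?_ ?_
  · intro H m hm hm64
    rcases mod64 (hdvd H m hm) hm64 with h1 | h1 | h1
    · exact h1
    · exfalso
      subst h1
      obtain ⟨n, k, hn, hk, hkn⟩ := nineteen h (H := H) (m := 2176) (by rw [hm]) (by norm_num)
      have hkle : k ≤ 18 := Nat.le_of_dvd (by norm_num) hk
      interval_cases k <;> omega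
    · exfalso
      subst h1
      obtain ⟨n, k, hn, hk, hkn⟩ := nineteen h (H := H) (m := 10368) (by rw [hm]) (by norm_num)
      have hkle : k ≤ 18 := Nat.le_of_dvd (by norm_num) hk
      interval_cases k <;> omega
  · intro H m hm hm16 h15 _
    exact mod16 (hdvd H m hm) hm16 h15

end Cfsg.Agent.H223.J3Pron
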