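import Cfsg.Agent.H223.J3Pron.Two
import Cfsg.Agent.J2Type.CStruct

/-!
# Overgroups of the Sylow 2-subgroup of `J₂`, `J₃`: fusion of the central involution (helper223)
-/

set_option autoImplicit false

namespace Cfsg.Agent.H223.J3Pron

open Subgroup Cfsg.Agent.H788.SF

universe u

section basic

variable {L : Type*} [Group L]

/-- `TwoE` and the involutions outside `A ∪ B` -/
structure TwoX (T : Subgroup L) (z : L) (A B : Subgroup L) : Prop where
  two : TwoE T z A B
  out : ∀ t ∈ T, t * t = 1 → t ∉ A → t ∉ B →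
    (∃ c ∈ T, c * t = t * c ∧ c * c = z) ∧ ∀ c ∈ T, c * t = t * c → c * c = 1 ∨ c * c = z

theorem TwoX.symm {T : Subgroup L} {z : L} {A B : Subgroup L} (h : TwoX T z A B) : TwoX T z B A :=
  ⟨h.two.symm, fun t ht htt hB hA => h.out t ht htt hA hB⟩

theorem TwoX.map {T : Subgroup L} {z : L} {A B : Subgroup L} (h : TwoX T z A B) {L' : Type*} [Group L'] (φ : L →* L')
    (hφ : Function.Injective φ) : TwoX (T.map φ) (φ z) (A.map φ) (B.map φ) := by
  refine ⟨h.two.map φ hφ, ?_⟩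
  rintro _ ⟨t, ht, rfl⟩ htt hA hB
  obtain ⟨⟨c, hc, h1, h2⟩, h3⟩ := h.out t ht (hφ (by rw [map_mul, htt, map_one])) (fun h => hA ⟨t, h, rfl⟩)
    (fun h => hB ⟨t, h, rfl⟩)
  refine ⟨⟨φ c, ⟨c, hc, rfl⟩, by rw [← map_mul, h1, map_mul], by rw [← map_mul, h2]⟩, ?_⟩
  rintro _ ⟨d, hd, rfl⟩ hdt
  rcases h3 d hd (hφ (by rw [map_mul, map_mul]; exact hdt)) with h4 | h4
  · left; rw [← map_mul, h4, map_one]
  · right; rw [← map_mul, h4]

/-- the centralizer of `x` has the structure `TwoX` -/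
def Dat (x : L) (A B : Subgroup L) : Prop := TwoX (centralizer ({x} : Set L)) x A B

theorem Dat.symm {x : L} {A B : Subgroup L} (h : Dat x A B) : Dat x B A := TwoX.symm h

theorem mem_conj {A : Subgroup L} {g y : L} : y ∈ A.map (MulAut.conj g).toMonoidHom ↔ g⁻¹ * y * g ∈ A := by
  constructor
  · rintro ⟨a, ha, rfl⟩
    have : g⁻¹ * (g * a * g⁻¹) * g = a := by group
    show g⁻¹ * (g * a * g⁻¹) * g ∈ A
    rw [this]; exact ha
  · intro h
    exact ⟨_, h, show g * (g⁻¹ * y * g) * g⁻¹ = y by group⟩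

theorem cent_conj (x g : L) : (centralizer ({x} : Set L)).map (MulAut.conj g).toMonoidHom =
    centralizer ({g * x * g⁻¹} : Set L) := by
  ext y
  rw [mem_conj, mem_centralizer_singleton_iff, mem_centralizer_singleton_iff]
  constructor
  · intro h
    calc y * (g * x * g⁻¹) = g * (g⁻¹ * y * g * x) * g⁻¹ := by group
      _ = g * (x * (g⁻¹ * y * g)) * g⁻¹ := by rw [h]
      _ = g * x * g⁻¹ * y := by group
  · intro h
    calc g⁻¹ * y * g * x = g⁻¹ * (y * (g * x * g⁻¹)) * g := by group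
      _ = g⁻¹ * (g * x * g⁻¹ * y) * g := by rw [h]
      _ = x * (g⁻¹ * y * g) := by group

theorem Dat.conj {x : L} {A B : Subgroup L} (h : Dat x A B) (g : L) :
    Dat (g * x * g⁻¹) (A.map (MulAut.conj g).toMonoidHom) (B.map (MulAut.conj g).toMonoidHom) := by
  have h1 := TwoX.map h (MulAut.conj g).toMonoidHom (MulAut.conj g).injective
  rw [cent_conj] at h1
  exact h1

variable {x t : L} {A B A' B' : Subgroup L}

theorem Dat.near (hx : Dat x A B) (ht : Dat t A' B') (htU : t ∈ A ⊓ B) : (A' = A ∧ B' = B) ∨ (A' = B ∧ B' = A) := by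
  have hA : A ≤ centralizer ({t} : Set L) := fun a ha =>
    mem_centralizer_singleton_iff.2 (TwoE.comm_of_sq hx.two.sq₁ ha htU.1)
  have hB : B ≤ centralizer ({t} : Set L) := fun a ha =>
    mem_centralizer_singleton_iff.2 (TwoE.comm_of_sq hx.two.sq₂ ha htU.2)
  have hne := hx.two.ne
  rcases ht.two.sixteen hA hx.two.sq₁ hx.two.card₁ with h1 | h1 <;>
    rcases ht.two.sixteen hB hx.two.sq₂ hx.two.card₂ with h2 | h2
  · exact absurd (h1.trans h2.symm) hne
  · exact Or.inl ⟨h1.symm, h2.symm⟩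
  · exact Or.inr ⟨h2.symm, h1.symm⟩
  · exact absurd (h1.trans h2.symm) hne

theorem Dat.far (hx : Dat x A B) (ht : Dat t A' B') (htA : t ∈ A) : A' = A ∨ B' = A := by
  have hA : A ≤ centralizer ({t} : Set L) := fun a ha =>
    mem_centralizer_singleton_iff.2 (TwoE.comm_of_sq hx.two.sq₁ ha htA)
  rcases ht.two.sixteen hA hx.two.sq₁ hx.two.card₁ with h1 | h1
  · exact Or.inl h1.symm
  · exact Or.inr h1.symm

theorem Dat.uniq (hx : Dat x A B) (ht : Dat x A' B') : (A' = A ∧ B' = B) ∨ (A' = B ∧ B' = A) :=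
  hx.near ht hx.two.z_mem

theorem Dat.self_mem (hx : Dat x A B) : x ∈ A ⊓ B := hx.two.z_mem

theorem Dat.noout (hx : Dat x A B) (ht : Dat t A' B') (h : t * x = x * t) : t ∈ A ∨ t ∈ B := by
  by_contra hcon
  push Not at hcon
  obtain ⟨hA, hB⟩ := hcon
  have htt : t * t = 1 := TwoL.zz ht.two
  obtain ⟨⟨c, hc, h1, h2⟩, -⟩ := hx.out t (mem_centralizer_singleton_iff.2 h) htt hA hB
  have hxC : x ∈ centralizer ({t} : Set L) := mem_centralizer_singleton_iff.2 h.symm
  have hcC : c ∈ centralizer ({t} : Set L) := mem_centralizer_singleton_iff.2 h1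
  have hcx : c * x = x * c := mem_centralizer_singleton_iff.1 hc
  have hx1 : x ≠ 1 := hx.two.z_ne
  have hxx : x * x = 1 := TwoL.zz hx.two
  by_cases hxA : x ∈ A'
  · by_cases hxB : x ∈ B'
    · rcases ht.near hx ⟨hxA, hxB⟩ with ⟨h3, h4⟩ | ⟨h3, h4⟩
      · exact hA (by rw [h3]; exact ht.two.z_mem.1)
      · exact hA (by rw [h3]; exact ht.two.z_mem.2)
    · have h3 := TwoL.cent ht.two hxA hxB hcC hcx
      exact hx1 (by rw [← h2]; exact ht.two.sq₁ c h3)
  · by_cases hxB : x ∈ B'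
    · have h3 := TwoL.cent ht.two.symm hxB hxA hcC hcx
      exact hx1 (by rw [← h2]; exact ht.two.sq₂ c h3)
    · rcases (ht.out x hxC hxx hxA hxB).2 c hcC hcx with h3 | h3
      · exact hx1 (by rw [← h2, h3])
      · apply hA
        rw [← h3, h2]
        exact hx.two.z_mem.1

end basic

section D

variable {L : Type*} [Group L]

/-- the class of `z` -/
def DD (z : L) : Set L := {x | ∃ g : L, g * z * g⁻¹ = x}

theorem DD_conj (z g x : L) (hx : x ∈ DD z) : g * x * g⁻¹ ∈ DD z := by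
  obtain ⟨k, rfl⟩ := hx
  exact ⟨g * k, by group⟩

theorem DD_conj' (z g x : L) (hx : g * x * g⁻¹ ∈ DD z) : x ∈ DD z := by
  have h1 := DD_conj z g⁻¹ _ hx
  have h2 : g⁻¹ * (g * x * g⁻¹) * g⁻¹⁻¹ = x := by group
  rwa [h2] at h1

theorem self_DD (z : L) : z ∈ DD z := ⟨1, by group⟩

variable {z : L} {A B : Subgroup L} (hz : Dat z A B)
include hz

theorem exists_dat {x : L} (hx : x ∈ DD z) : ∃ A' B', Dat x A' B' := by
  obtain ⟨g, rfl⟩ := hx
  exact ⟨_, _, hz.conj g⟩

theorem card_DD [Finite L] : Nat.card L = 128 * Nat.card (DD z) := by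
  have h1 := Cfsg.Agent.J2Type.CStruct.card_conj z
  have h2 : Nat.card {k : L // k * z = z * k} = 128 := by
    rw [← hz.two.cardT]
    exact Nat.card_congr (Equiv.subtypeEquivRight fun k => mem_centralizer_singleton_iff.symm)
  rw [h2] at h1
  rw [← h1, mul_comm]
  rfl

end D

section U

variable {L : Type*} [Group L] {z : L}

/-- if two involutions of `A ⊓ B` are in the class then all are -/
theorem U_DD {x t : L} {A B : Subgroup L} (hx : Dat x A B) (hxD : x ∈ DD z) (htD : t ∈ DD z) (htU : t ∈ A ⊓ B)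
    (ht1 : t ≠ 1) (htx : t ≠ x) : ∀ u ∈ A ⊓ B, u ≠ 1 → u ∈ DD z := by
  intro u hu hu1
  rcases TwoL.fourz hx.two htU ht1 htx hu with h | h | h | h
  · exact absurd h hu1
  · rw [h]; exact hxD
  · rw [h]; exact htD
  · obtain ⟨s, -, hs⟩ := TwoL.exists_swap hx.two htU ht1 htx
    rw [h, ← hs]
    exact DD_conj z s t htD

end U

end Cfsg.Agent.H223.J3Pron
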