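import Cfsg.Agent.H223.J3Pron.FusTwo

/-!
# Overgroups of the Sylow 2-subgroup of `J₂`, `J₃`: the class of `z` meets `C(z)` outside `A ∩ B` (helper223)

Then all the involutions of `A ∪ B` are in the class, the class has `11` elements modulo `16` and `15` divides it.
-/

set_option autoImplicit false
set_option linter.unusedSectionVars false

namespace Cfsg.Agent.H223.J3Pron

open Subgroup Cfsg.Agent.H788.SF

variable {L : Type*} [Group L] {z : L}

/-- elements of the class inside `A` -/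
theorem datA {A B : Subgroup L} (hz : Dat z A B) {x : L} (hx : x ∈ DD z) (hxA : x ∈ A) : ∃ B', Dat x A B' := by
  obtain ⟨A1, B1, h⟩ := exists_dat hz hx
  rcases hz.far h hxA with rfl | rfl
  · exact ⟨B1, h⟩
  · exact ⟨A1, h.symm⟩

theorem inter_one {A0 B0 : Subgroup L} (hz : Dat z A0 B0) {A B B' : Subgroup L} {x y : L} (hx : Dat x A B)
    (hy : Dat y A B') (hyD : y ∈ DD z) (hyB : y ∉ B) {e : L} (heA : e ∈ A) (heB : e ∈ B) (heB' : e ∈ B') : e = 1 := by
  by_contra he1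
  have hyA : y ∈ A := hy.self_mem.1
  obtain ⟨b, -, hb⟩ := TwoL.orb hx.two hyA hyB ⟨heA, heB⟩
  have h1 : e * y ∈ DD z := by
    rw [← hb]
    exact DD_conj z b y hyD
  have h2 : e * y ∈ A ⊓ B' := mul_mem ⟨heA, heB'⟩ hy.self_mem
  have h3 : e * y ≠ y := fun h => he1 (by simpa using h)
  have h4 : e * y ≠ 1 := by
    intro h
    apply hyB
    have h5 : y = e⁻¹ := (inv_eq_of_mul_eq_one_right h).symm
    rw [h5]; exact inv_mem heB
  have h5 := U_DD hy hyD h1 h2 h4 h3 e ⟨heA, heB'⟩ he1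
  obtain ⟨A1, B1, h6⟩ := exists_dat hz h5
  have hne := hx.two.ne
  have hne' := hy.two.ne
  have h7 : B = B' := by
    rcases hx.near h6 ⟨heA, heB⟩ with ⟨h8, h9⟩ | ⟨h8, h9⟩ <;> rcases hy.near h6 ⟨heA, heB'⟩ with ⟨h10, h11⟩ | ⟨h10, h11⟩
    · rw [← h9, ← h11]
    · exact absurd (h8.symm.trans h10) hne'
    · exact absurd (h10.symm.trans h8) hne
    · rw [← h8, ← h10]
  apply hyB
  rw [h7]
  exact hy.self_mem.2

section three

variable {A B B' : Subgroup L} {t : L} (hz : Dat z A B) (ht : Dat t A B') (htD : t ∈ DD z) (htB : t ∉ B)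

/-- `B` normalises `A` -/
theorem B_norm {x : L} {A B : Subgroup L} (hx : Dat x A B) : B ≤ normalizer (A : Set L) := by
  intro b hb
  have hfA := hx.two.finite₁
  exact mem_norm fun a ha => hx.two.conj_mem₁ (mem_sup_right hb) ha

/-- conjugacy under the normalizer of `A` -/
def Rel (A : Subgroup L) (a b : L) : Prop := ∃ g ∈ normalizer (A : Set L), g * a * g⁻¹ = b

theorem Rel.trans {A : Subgroup L} {a b c : L} (h : Rel A a b) (h' : Rel A b c) : Rel A a c := by
  obtain ⟨g, hg, rfl⟩ := h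
  obtain ⟨k, hk, rfl⟩ := h'
  exact ⟨k * g, mul_mem hk hg, by group⟩

theorem rel_step {x : L} {A B : Subgroup L} (hx : Dat x A B) {a u : L} (ha : a ∈ A) (haB : a ∉ B) (hu : u ∈ A ⊓ B) :
    Rel A a (u * a) := by
  obtain ⟨b, hb, h⟩ := TwoL.orb hx.two ha haB hu
  exact ⟨b, B_norm hx hb, h⟩

include hz ht htD htB

/-- `A` is the product of `A ⊓ B` and `A ⊓ B'` -/
theorem exists_mul {a : L} (ha : a ∈ A) : ∃ u ∈ A ⊓ B, ∃ w ∈ A ⊓ B', a = u * w := by
  have h1 : ∀ e ∈ A, e ∈ B → e ∈ B' → e = 1 := fun e h2 h3 h4 => inter_one hz hz ht htD htB h2 h3 h4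
  have hfA := hz.two.finite₁
  have hfU : Finite (A ⊓ B : Subgroup L) := Nat.finite_of_card_ne_zero (by rw [hz.two.inter]; norm_num)
  have hfW : Finite (A ⊓ B' : Subgroup L) := Nat.finite_of_card_ne_zero (by rw [ht.two.inter]; norm_num)
  let f : (A ⊓ B : Subgroup L) × (A ⊓ B' : Subgroup L) → A := fun p => ⟨p.1.1 * p.2.1, A.mul_mem p.1.2.1 p.2.2.1⟩
  have hinj : Function.Injective f := by
    rintro ⟨u, w⟩ ⟨u', w'⟩ h
    have h2 : (u : L) * w = u' * w' := congrArg Subtype.val h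
    have h3 : (u' : L)⁻¹ * u = w' * (w : L)⁻¹ := by
      calc (u' : L)⁻¹ * u = (u' : L)⁻¹ * (u * w) * (w : L)⁻¹ := by group
        _ = (u' : L)⁻¹ * (u' * w') * (w : L)⁻¹ := by rw [h2]
        _ = _ := by group
    have h4 : (u' : L)⁻¹ * u = 1 := by
      apply h1 _ (mul_mem (inv_mem u'.2.1) u.2.1) (mul_mem (inv_mem u'.2.2) u.2.2)
      rw [h3]
      exact mul_mem w'.2.2 (inv_mem w.2.2)
    have h5 : (u : L) = u' := (inv_mul_eq_one.1 h4).symm
    have h6 : (w : L) = w' := by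
      rw [h5] at h2
      exact mul_left_cancel h2
    rw [Subtype.ext h5, Subtype.ext h6]
  have hbij : Function.Bijective f := by
    rw [Nat.bijective_iff_injective_and_card]
    refine ⟨hinj, ?_⟩
    rw [Nat.card_prod, hz.two.inter, ht.two.inter, hz.two.card₁]
  obtain ⟨⟨u, w⟩, h⟩ := hbij.2 ⟨a, ha⟩
  exact ⟨u, u.2, w, w.2, (congrArg Subtype.val h).symm⟩

/-- the normalizer of `A` is transitive on the involutions of `A` -/
theorem rel_all {a : L} (ha : a ∈ A) (ha1 : a ≠ 1) : Rel A z a := by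
  have h1 : ∀ e ∈ A, e ∈ B → e ∈ B' → e = 1 := fun e h2 h3 h4 => inter_one hz hz ht htD htB h2 h3 h4
  have hzz : z * z = 1 := TwoL.zz hz.two
  have htt : t * t = 1 := TwoL.zz ht.two
  have hzA := hz.self_mem
  have htA := ht.self_mem
  have hzB' : z ∉ B' := fun h => hz.two.z_ne (h1 z hzA.1 hzA.2 h)
  have hcA : ∀ a ∈ A, ∀ b ∈ A, a * b = b * a := fun a ha b hb => TwoE.comm_of_sq hz.two.sq₁ ha hb
  -- `z ~ w z` for `w ∈ A ⊓ B'`
  have s1 : ∀ w ∈ A ⊓ B', Rel A z (w * z) := fun w hw => rel_step ht hzA.1 hzB' hw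
  -- `z ~ u w` for `w ≠ 1`
  have s2 : ∀ u ∈ A ⊓ B, ∀ w ∈ A ⊓ B', w ≠ 1 → Rel A z (u * w) := by
    intro u hu w hw hw1
    have h2 : w * z ∉ B := by
      intro h
      apply hw1
      apply h1 w hw.1 _ hw.2
      have : w = (w * z) * z := by rw [mul_assoc, hzz, mul_one]
      rw [this]; exact mul_mem h hzA.2
    have h3 := rel_step hz (A.mul_mem hw.1 hzA.1) h2 (mul_mem hu hzA)
    have h4 : u * z * (w * z) = u * w := by
      rw [hcA w hw.1 z hzA.1]
      calc u * z * (z * w) = u * (z * z) * w := by group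
        _ = u * w := by rw [hzz, mul_one]
    rw [h4] at h3
    exact (s1 w hw).trans h3
  obtain ⟨u, hu, w, hw, rfl⟩ := exists_mul hz ht htD htB ha
  by_cases hw1 : w = 1
  · subst hw1
    rw [mul_one] at ha1 ⊢
    -- `u t ~ u`
    have h2 : u * t ∉ B' := by
      intro h
      apply ha1
      apply h1 u hu.1 hu.2
      have : u = (u * t) * t := by rw [mul_assoc, htt, mul_one]
      rw [this]; exact mul_mem h htA.2
    have h3 := rel_step ht (A.mul_mem hu.1 htA.1) h2 htA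
    have h4 : t * (u * t) = u := by
      rw [hcA u hu.1 t htA.1, ← mul_assoc, htt, one_mul]
    rw [h4] at h3
    exact (s2 u hu t htA ht.two.z_ne).trans h3
  · exact s2 u hu w hw hw1

theorem all_DD {a : L} (ha : a ∈ A) (ha1 : a ≠ 1) : a ∈ DD z := by
  obtain ⟨g, -, h⟩ := rel_all hz ht htD htB ha ha1
  exact ⟨g, h⟩

theorem fifteen [Finite L] : 15 ∣ Nat.card (DD z) := by
  have hzA := hz.self_mem.1
  have hzN : z ∈ normalizer (A : Set L) := le_normalizer hzA
  have h1 := Cfsg.Agent.J2Type.CStruct.card_conj (⟨z, hzN⟩ : normalizer (A : Set L))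
  have h2 : Nat.card {y : normalizer (A : Set L) // ∃ k : normalizer (A : Set L),
      k * (⟨z, hzN⟩ : normalizer (A : Set L)) * k⁻¹ = y} = 15 := by
    have h3 : Nat.card {u : A // u ≠ 1} = 15 := by
      classical
      have hF := Fintype.ofFinite A
      rw [Nat.card_eq_fintype_card, Fintype.card_subtype_compl, Fintype.card_subtype_eq, ← Nat.card_eq_fintype_card,
        hz.two.card₁]
    rw [← h3]
    refine Nat.card_congr ⟨fun y => ⟨⟨y.1, ?_⟩, ?_⟩, fun u => ⟨⟨u, le_normalizer u.1.2⟩, ?_⟩, fun y => rfl, fun y => rfl⟩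
    · obtain ⟨k, hk⟩ := y.2
      rw [← hk]
      exact (mem_normalizer_iff.1 k.2 z).1 hzA
    · obtain ⟨k, hk⟩ := y.2
      intro h
      apply hz.two.z_ne
      have h4 : ((y.1 : normalizer (A : Set L)) : L) = 1 := congrArg Subtype.val h
      rw [← hk] at h4
      have h5 : (k : L) * z * (k : L)⁻¹ = 1 := h4
      have : z = (k : L)⁻¹ * ((k : L) * z * (k : L)⁻¹) * k := by group
      rw [this, h5]; group
    · obtain ⟨g, hg, h⟩ := rel_all hz ht htD htB u.1.2 (fun h => u.2 (Subtype.ext h))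
      exact ⟨⟨g, hg⟩, Subtype.ext h⟩
  rw [h2] at h1
  have h3 : Nat.card (normalizer (A : Set L)) ∣ Nat.card L := Subgroup.card_subgroup_dvd_card _
  have h4 : 15 ∣ 128 * Nat.card (DD z) := by
    rw [← card_DD hz]
    exact dvd_trans ⟨_, h1.symm⟩ h3
  exact (Nat.Coprime.dvd_mul_left (by norm_num)).1 h4

theorem card_mod16 [Finite L] : Nat.card (DD z) % 16 = 11 := by
  have key := burn (DD z) (fun g x hx => DD_conj z g x hx) A 27 (by
    intro a ha ha1
    have haD := all_DD hz ht htD htB ha ha1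
    obtain ⟨Ba, hda⟩ := datA hz haD ha
    have hBa : ∀ b ∈ Ba, b ≠ 1 → b ∈ DD z := by
      intro b hb hb1
      obtain ⟨s, hs, hsJ⟩ := TwoL.exists_outer hda.two
      have h1 := (hda.two.outer hs hsJ).2.1 b hb
      apply DD_conj' z s
      apply all_DD hz ht htD htB h1
      intro h
      apply hb1
      have : b = s⁻¹ * (s * b * s⁻¹) * s := by group
      rw [this, h]; group
    have h1 : {x : L | x ∈ DD z ∧ a * x = x * a} = ((A : Set L) ∪ (Ba : Set L)) \ {1} := by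
      ext x
      constructor
      · rintro ⟨hx, hax⟩
        obtain ⟨A1, B1, h2⟩ := exists_dat hz hx
        exact ⟨hda.noout h2 hax.symm, fun h => h2.two.z_ne h⟩
      · rintro ⟨hx | hx, hx1⟩
        · exact ⟨all_DD hz ht htD htB hx hx1, TwoE.comm_of_sq hda.two.sq₁ ha hx⟩
        · exact ⟨hBa x hx hx1, TwoE.comm_of_sq hda.two.sq₂ hda.self_mem.2 hx⟩
    have h2 : ((A : Set L) ∪ (Ba : Set L)).ncard = 28 := by
      have h3 := Set.ncard_union_add_ncard_inter (A : Set L) (Ba : Set L) (Set.toFinite _) (Set.toFinite _)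
      have h4 : ((A : Set L) ∩ (Ba : Set L)).ncard = 4 := by
        rw [← hda.two.inter]; rfl
      have h5 : (A : Set L).ncard = 16 := by rw [← hda.two.card₁]; rfl
      have h6 : (Ba : Set L).ncard = 16 := by rw [← hda.two.card₂]; rfl
      omega
    have h3 : (((A : Set L) ∪ (Ba : Set L)) \ {1}).ncard = 27 := by
      rw [Set.ncard_sdiff_singleton_of_mem (show (1 : L) ∈ (A : Set L) ∪ (Ba : Set L) from Or.inl A.one_mem), h2]
    rw [← h1] at h3
    exact h3)
  rw [hz.two.card₁] at key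
  omega

end three

/-- **The three cases.** -/
theorem cases [Finite L] {A B : Subgroup L} (hz : Dat z A B) :
    (∀ g : L, (g * z * g⁻¹) * z = z * (g * z * g⁻¹) → g * z * g⁻¹ = z) ∨
    (Nat.card (DD z) % 64 = 3 ∧ (∀ u ∈ A ⊓ B, u ≠ 1 → u ∈ DD z)) ∨
    (Nat.card (DD z) % 16 = 11 ∧ 15 ∣ Nat.card (DD z) ∧ ∃ t ∈ DD z, t ∈ A ∧ t ∉ B ∨ t ∈ B ∧ t ∉ A) := by
  by_cases h3 : ∃ t ∈ DD z, t * z = z * t ∧ t ∉ A ⊓ B
  · right; right
    obtain ⟨t, htD, htz, htU⟩ := h3
    obtain ⟨A1, B1, h⟩ := exists_dat hz htD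
    rcases hz.noout h htz with hA | hB
    · have hB : t ∉ B := fun h => htU ⟨hA, h⟩
      obtain ⟨B', ht⟩ := datA hz htD hA
      exact ⟨card_mod16 hz ht htD hB, fifteen hz ht htD hB, t, htD, Or.inl ⟨hA, hB⟩⟩
    · have hA : t ∉ A := fun h => htU ⟨h, hB⟩
      obtain ⟨B', ht⟩ := datA hz.symm htD hB
      exact ⟨card_mod16 hz.symm ht htD hA, fifteen hz.symm ht htD hA, t, htD, Or.inr ⟨hB, hA⟩⟩
  · push Not at h3
    by_cases h2 : ∃ t ∈ DD z, t * z = z * t ∧ t ≠ z
    · right; left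
      obtain ⟨t, htD, htz, htne⟩ := h2
      have htU := h3 t htD htz
      have ht1 : t ≠ 1 := by
        obtain ⟨A1, B1, h⟩ := exists_dat hz htD
        exact h.two.z_ne
      have hUD := U_DD hz (self_DD z) htD htU ht1 htne
      exact ⟨card_mod hz h3 hUD ⟨t, htU, ht1, htne⟩, hUD⟩
    · left
      push Not at h2
      intro g hg
      exact h2 _ ⟨g, rfl⟩ hg

end Cfsg.Agent.H223.J3Pron
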