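import Cfsg.Agent.H223.J3Pron.Fus

/-!
# Overgroups of the Sylow 2-subgroup of `J₂`, `J₃`: the class of `z` meets `C(z)` in `A ∩ B` (helper223)

Then `A ⊔ B` acts semiregularly on the rest of the class.
-/

set_option autoImplicit false
set_option linter.unusedSectionVars false

namespace Cfsg.Agent.H223.J3Pron

open Subgroup Cfsg.Agent.H788.SF

variable {L : Type*} [Group L]

/-- `J` acts trivially on `B / (A ⊓ B)` -/
theorem J_triv {T : Subgroup L} {z : L} {A B : Subgroup L} (h : TwoE T z A B) {j b : L} (hj : j ∈ A ⊔ B) (hb : b ∈ B) :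
    j * b * j⁻¹ * b⁻¹ ∈ A ⊓ B := by
  obtain ⟨a, ha, b', hb', rfl⟩ := (h.mem_sup j).1 hj
  have h1 := TwoE.comm_of_sq h.sq₂ hb' hb
  have h2 := h.br a ha b hb
  have h3 : a * b' * b * (a * b')⁻¹ * b⁻¹ = a * b * a⁻¹ * b⁻¹ := by
    calc a * b' * b * (a * b')⁻¹ * b⁻¹ = a * (b' * b) * b'⁻¹ * a⁻¹ * b⁻¹ := by group
      _ = a * (b * b') * b'⁻¹ * a⁻¹ * b⁻¹ := by rw [h1]
      _ = a * b * a⁻¹ * b⁻¹ := by group
  rw [h3]; exact h2

/-- the elements of `N(A ⊓ B)` acting trivially on `B` modulo `A ⊓ B` -/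
def Tr (U B : Subgroup L) : Subgroup L where
  carrier := {g | g ∈ normalizer (U : Set L) ∧ ∀ b ∈ B, g * b * g⁻¹ * b⁻¹ ∈ U}
  one_mem' := ⟨one_mem _, fun b _ => by
    have : (1 : L) * b * (1 : L)⁻¹ * b⁻¹ = 1 := by group
    rw [this]; exact one_mem _⟩
  mul_mem' := by
    rintro g k ⟨hg, hg'⟩ ⟨hk, hk'⟩
    refine ⟨mul_mem hg hk, fun b hb => ?_⟩
    have h1 : g * k * b * (g * k)⁻¹ * b⁻¹ = g * (k * b * k⁻¹ * b⁻¹) * g⁻¹ * (g * b * g⁻¹ * b⁻¹) := by group
    rw [h1]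
    exact mul_mem ((mem_normalizer_iff.1 hg _).1 (hk' b hb)) (hg' b hb)
  inv_mem' := by
    rintro g ⟨hg, hg'⟩
    refine ⟨inv_mem hg, fun b hb => ?_⟩
    have h1 : g⁻¹ * b * g⁻¹⁻¹ * b⁻¹ = g⁻¹ * (g * b * g⁻¹ * b⁻¹)⁻¹ * g⁻¹⁻¹ := by group
    rw [h1]
    exact (mem_normalizer_iff.1 (inv_mem hg) _).1 (inv_mem (hg' b hb))

theorem mem_Tr {U B : Subgroup L} {g : L} : g ∈ Tr U B ↔ g ∈ normalizer (U : Set L) ∧ ∀ b ∈ B, g * b * g⁻¹ * b⁻¹ ∈ U :=
  Iff.rfl

/-- on a subgroup, stability under conjugation by `n` gives normalization if the subgroup is finite -/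
theorem mem_norm {U : Subgroup L} [Finite U] {n : L} (h : ∀ u ∈ U, n * u * n⁻¹ ∈ U) : n ∈ normalizer (U : Set L) := by
  rw [mem_normalizer_iff]
  intro u
  refine ⟨h u, fun hu => ?_⟩
  have hinj : Function.Injective (fun w : U => (⟨n * w * n⁻¹, h w w.2⟩ : U)) := by
    intro w w' hw
    have := congrArg Subtype.val hw
    simp only [mul_left_inj, mul_right_inj] at this
    exact Subtype.ext this
  obtain ⟨w, hw⟩ := Finite.surjective_of_injective hinj ⟨_, hu⟩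
  have h1 : n * w * n⁻¹ = n * u * n⁻¹ := congrArg Subtype.val hw
  have h2 : (w : L) = u := by simpa using h1
  rw [← h2]; exact w.2

section trip

variable {z : L} {A B : Subgroup L} (hz : Dat z A B)
include hz

/-- an element `n` permuting `A ⊓ B` without fixed points is a three-cycle -/
theorem cycle {n : L} (hU : ∀ u ∈ A ⊓ B, n * u * n⁻¹ ∈ A ⊓ B) (hf : ∀ u ∈ A ⊓ B, u ≠ 1 → n * u * n⁻¹ ≠ u) :
    ∃ t ∈ A ⊓ B, t ≠ 1 ∧ t ≠ z ∧ n * z * n⁻¹ = t ∧ n * t * n⁻¹ = z * t ∧ n * (z * t) * n⁻¹ = z := by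
  have hzU := hz.self_mem
  have hz1 : z ≠ 1 := hz.two.z_ne
  have hzz : z * z = 1 := TwoL.zz hz.two
  have hconj1 : ∀ u, n * u * n⁻¹ = 1 → u = 1 := by
    intro u hu
    have : u = n⁻¹ * (n * u * n⁻¹) * n := by group
    rw [this, hu]; group
  have hinj : ∀ u w, n * u * n⁻¹ = n * w * n⁻¹ → u = w := by
    intro u w huw
    simpa using huw
  set t := n * z * n⁻¹ with ht
  have htU : t ∈ A ⊓ B := hU z hzU
  have ht1 : t ≠ 1 := fun h => hz1 (hconj1 z h)
  have htz : t ≠ z := hf z hzU hz1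
  have htt : t * t = 1 := TwoL.sqU hz.two t htU
  have hcomm : z * t = t * z := TwoE.comm_of_sq (TwoL.sqU hz.two) hzU htU
  have hzt1 : z * t ≠ 1 := by
    intro h
    apply htz
    calc t = z * z * t := by rw [hzz, one_mul]
      _ = z * (z * t) := by group
      _ = z := by rw [h, mul_one]
  have hmul : n * (z * t) * n⁻¹ = t * (n * t * n⁻¹) := by rw [ht]; group
  have hr : n * t * n⁻¹ = z * t := by
    rcases TwoL.fourz hz.two htU ht1 htz (hU t htU) with h | h | h | h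
    · exact absurd (hconj1 t h) ht1
    · exfalso
      apply hf (z * t) (mul_mem hzU htU) hzt1
      rw [hmul, h, hcomm]
    · exact absurd h (hf t htU ht1)
    · exact h
  refine ⟨t, htU, ht1, htz, rfl, hr, ?_⟩
  rw [hmul, hr, hcomm, ← mul_assoc, htt, one_mul]

/-- `n` acts trivially on `A` modulo `U` -/
theorem triv_A {n y : L} (hy : y ∈ A) (hyB : y ∉ B) (hny : n * y = y * n) (hA : ∀ a ∈ A, n * a * n⁻¹ ∈ A)
    (hU : ∀ u ∈ A ⊓ B, n * u * n⁻¹ ∈ A ⊓ B) (h3 : n * n * n ∈ A) :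
    ∀ a ∈ A, n * a * n⁻¹ * a⁻¹ ∈ A ⊓ B := by
  have hfA := hz.two.finite₁
  have hcA : ∀ a ∈ A, ∀ b ∈ A, a * b = b * a := fun a ha b hb => TwoE.comm_of_sq hz.two.sq₁ ha hb
  let W : Subgroup L :=
    { carrier := {a | a ∈ A ∧ n * a * n⁻¹ * a⁻¹ ∈ A ⊓ B}
      one_mem' := ⟨one_mem _, by
        have : n * 1 * n⁻¹ * (1 : L)⁻¹ = 1 := by group
        rw [this]; exact one_mem _⟩
      mul_mem' := by
        rintro a b ⟨ha, ha'⟩ ⟨hb, hb'⟩
        refine ⟨mul_mem ha hb, ?_⟩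
        have h1 : n * (a * b) * n⁻¹ * (a * b)⁻¹ = (n * a * n⁻¹) * ((n * b * n⁻¹ * b⁻¹) * a⁻¹) := by group
        have h2 := hcA _ hb'.1 _ (A.inv_mem ha)
        rw [h1, h2, ← mul_assoc]
        exact mul_mem ha' hb'
      inv_mem' := by
        rintro a ⟨ha, ha'⟩
        refine ⟨inv_mem ha, ?_⟩
        have h1 : n * a⁻¹ * n⁻¹ * a⁻¹⁻¹ = (a⁻¹ * (n * a * n⁻¹))⁻¹ := by group
        have h2 := hcA _ (A.inv_mem ha) _ (hA a ha)
        rw [h1, h2]
        exact inv_mem ha' }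
  have hWA : W ≤ A := fun a ha => ha.1
  have hUW : A ⊓ B ≤ W := fun u hu => ⟨hu.1, mul_mem (hU u hu) (inv_mem hu)⟩
  have hyW : y ∈ W := ⟨hy, by
    have : n * y * n⁻¹ * y⁻¹ = 1 := by rw [hny]; group
    rw [this]; exact one_mem _⟩
  by_contra hcon
  push Not at hcon
  obtain ⟨a, ha, haW⟩ := hcon
  have haW' : a ∉ W := fun h => haW h.2
  -- the index of `W` in `A` is two
  have hfW : Finite W := Finite.of_injective (Subgroup.inclusion hWA) (Subgroup.inclusion_injective _)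
  have hcU : Nat.card (A ⊓ B : Subgroup L) = 4 := hz.two.inter
  have hd1 : Nat.card (A ⊓ B : Subgroup L) ∣ Nat.card W := Subgroup.card_dvd_of_le hUW
  have hd2 : Nat.card W ∣ Nat.card A := Subgroup.card_dvd_of_le hWA
  have hne : Nat.card W ≠ 4 := by
    intro h
    have h1 : A ⊓ B = W := Subgroup.eq_of_le_of_card_ge hUW (by rw [h, hcU])
    have h2 : y ∈ A ⊓ B := by rw [h1]; exact hyW
    exact hyB h2.2
  have hne2 : Nat.card W ≠ 16 := by
    intro h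
    have h1 : W = A := Subgroup.eq_of_le_of_card_ge hWA (by rw [h, hz.two.card₁])
    exact haW' (by rw [h1]; exact ha)
  rw [hcU] at hd1
  rw [hz.two.card₁] at hd2
  have hc8 : Nat.card W = 8 := by
    have h1 : Nat.card W ≤ 16 := Nat.le_of_dvd (by norm_num) hd2
    have h0 : 0 < Nat.card W := Nat.card_pos
    obtain ⟨k, hk⟩ := hd1
    have hk4 : k ≤ 4 := by omega
    interval_cases k
    · omega
    · omega
    · exact hk
    · rw [hk] at hd2; norm_num at hd2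
    · omega
  have hidx : (W.subgroupOf A).index = 2 := by
    have h1 := Subgroup.card_mul_index (W.subgroupOf A)
    rw [Nat.card_congr (Subgroup.subgroupOfEquivOfLe hWA).toEquiv, hc8, hz.two.card₁] at h1
    omega
  have hmul : ∀ b ∈ A, b ∉ W → b * a ∈ W := by
    intro b hb hbW
    have h1 := (Subgroup.mul_mem_iff_of_index_two hidx (a := ⟨b, hb⟩) (b := ⟨a, ha⟩)).2 (by
      rw [Subgroup.mem_subgroupOf, Subgroup.mem_subgroupOf]
      exact ⟨fun h => absurd h hbW, fun h => absurd h haW'⟩)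
    exact h1
  -- `n a n⁻¹ ∉ W`
  have hnW : n * a * n⁻¹ ∉ W := by
    intro h1
    apply haW'
    -- `n⁻¹` maps `W` to `W`
    have hnn : n ∈ normalizer (W : Set L) := by
      apply mem_norm
      rintro w ⟨hw, hw'⟩
      refine ⟨hA w hw, ?_⟩
      have e1 : n * (n * w * n⁻¹) * n⁻¹ * (n * w * n⁻¹)⁻¹ = n * (n * w * n⁻¹ * w⁻¹) * n⁻¹ := by group
      rw [e1]
      exact hU _ hw'
    exact (mem_normalizer_iff.1 hnn a).2 h1
  have haa : a * a = 1 := hz.two.sq₁ a ha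
  have hw := hmul _ (hA a ha) hnW
  set w := n * a * n⁻¹ * a with hw_def
  have hna : n * a * n⁻¹ = w * a := by
    rw [hw_def, mul_assoc _ a a, haa, mul_one]
  have hww : w * w = 1 := hz.two.sq₁ w hw.1
  -- `n w n⁻¹ = u w`
  set u := n * w * n⁻¹ * w⁻¹ with hu_def
  have hu : u ∈ A ⊓ B := hw.2
  have hnw : n * w * n⁻¹ = u * w := by rw [hu_def]; group
  have h2 : n * (n * a * n⁻¹) * n⁻¹ = u * a := by
    calc n * (n * a * n⁻¹) * n⁻¹ = n * (w * a) * n⁻¹ := by rw [hna]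
      _ = (n * w * n⁻¹) * (n * a * n⁻¹) := by group
      _ = u * w * (w * a) := by rw [hnw, hna]
      _ = u * (w * w) * a := by group
      _ = u * a := by rw [hww, mul_one]
  have h4 : n * n * n * a * (n * n * n)⁻¹ = (n * u * n⁻¹) * (w * a) := by
    calc n * n * n * a * (n * n * n)⁻¹ = n * (n * (n * a * n⁻¹) * n⁻¹) * n⁻¹ := by group
      _ = n * (u * a) * n⁻¹ := by rw [h2]
      _ = (n * u * n⁻¹) * (n * a * n⁻¹) := by group
      _ = _ := by rw [hna]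
  have h5 : n * n * n * a * (n * n * n)⁻¹ = a := by
    rw [hcA _ h3 a ha, mul_inv_cancel_right]
  have h6 : w = (n * u * n⁻¹)⁻¹ := by
    rw [h5] at h4
    have h7 : (n * u * n⁻¹) * w = 1 := by
      apply mul_right_cancel (b := a)
      rw [one_mul, mul_assoc]
      exact h4.symm
    exact (inv_eq_of_mul_eq_one_right h7).symm
  have hwU : w ∈ A ⊓ B := by rw [h6]; exact inv_mem (hU u hu)
  -- then `n a n⁻¹ a⁻¹ = w ∈ U`
  apply haW
  have h8 : n * a * n⁻¹ * a⁻¹ = w := by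
    rw [hna]; group
  rw [h8]; exact hwU

/-- no element inducing a three-cycle on `U` acts trivially on `A` modulo `U` -/
theorem no_triv {n : L} (hA : ∀ a ∈ A, n * a * n⁻¹ * a⁻¹ ∈ A ⊓ B)
    (hU : ∀ u ∈ A ⊓ B, n * u * n⁻¹ ∈ A ⊓ B) (hf : ∀ u ∈ A ⊓ B, u ≠ 1 → n * u * n⁻¹ ≠ u) : False := by
  have hfU : Finite (A ⊓ B : Subgroup L) := Nat.finite_of_card_ne_zero (by rw [hz.two.inter]; norm_num)
  have hnN : n ∈ normalizer ((A ⊓ B : Subgroup L) : Set L) := mem_norm hU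
  obtain ⟨t, htU, ht1, htz, e1, e2, e3⟩ := cycle hz hU hf
  obtain ⟨s, hs, hsJ⟩ := TwoL.exists_outer hz.two
  have hso := hz.two.outer hs hsJ
  have hso' := hz.two.outer (inv_mem hs) (fun h => hsJ (by have := inv_mem h; rwa [inv_inv] at this))
  set k := s * n * s⁻¹ with hk
  have hkU : ∀ u ∈ A ⊓ B, k * u * k⁻¹ ∈ A ⊓ B := by
    intro u hu
    have h1 := TwoL.conj_inf hz.two (inv_mem hs) hu
    have h2 := TwoL.conj_inf hz.two hs (hU _ h1)
    have h3 : k * u * k⁻¹ = s * (n * (s⁻¹ * u * s⁻¹⁻¹) * n⁻¹) * s⁻¹ := by rw [hk]; group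
    rw [h3]; exact h2
  have hkf : ∀ u ∈ A ⊓ B, u ≠ 1 → k * u * k⁻¹ ≠ u := by
    intro u hu hu1 h
    have h1 := TwoL.conj_inf hz.two (inv_mem hs) hu
    have h2 : s⁻¹ * u * s⁻¹⁻¹ ≠ 1 := by
      intro h3
      apply hu1
      have : u = s * (s⁻¹ * u * s⁻¹⁻¹) * s⁻¹ := by group
      rw [this, h3]; group
    apply hf _ h1 h2
    calc n * (s⁻¹ * u * s⁻¹⁻¹) * n⁻¹ = s⁻¹ * (k * u * k⁻¹) * s⁻¹⁻¹ := by rw [hk]; group
      _ = s⁻¹ * u * s⁻¹⁻¹ := by rw [h]
  have hkN : k ∈ normalizer ((A ⊓ B : Subgroup L) : Set L) := mem_norm hkU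
  have hkTr : k ∈ Tr (A ⊓ B) B := by
    refine ⟨hkN, fun b hb => ?_⟩
    have h1 := hso'.2.1 b hb
    have h2 := TwoL.conj_inf hz.two hs (hA _ h1)
    have h3 : k * b * k⁻¹ * b⁻¹ = s * (n * (s⁻¹ * b * s⁻¹⁻¹) * n⁻¹ * (s⁻¹ * b * s⁻¹⁻¹)⁻¹) * s⁻¹ := by
      rw [hk]; group
    rw [h3]; exact h2
  -- `J ≤ Tr`
  have hJTr : A ⊔ B ≤ Tr (A ⊓ B) B := by
    intro j hj
    refine ⟨mem_norm fun u hu => TwoL.conj_inf hz.two (TwoL.J_le hz.two hj) hu, fun b hb => J_triv hz.two hj hb⟩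
  -- an element of the normalizer of `U` fixing `z` and `t` is in `J`
  have hfix : ∀ g : L, g * z * g⁻¹ = z → g * t * g⁻¹ = t → g ∈ A ⊔ B := by
    intro g hg1 hg2
    have hgT : g ∈ centralizer ({z} : Set L) := mem_centralizer_singleton_iff.2 (mul_inv_eq_iff_eq_mul.1 hg1)
    by_contra hgJ
    obtain ⟨-, -, u, hu, hgu⟩ := hz.two.outer hgT hgJ
    apply hgu
    apply mul_inv_eq_iff_eq_mul.1
    rcases TwoL.fourz hz.two htU ht1 htz hu with h | h | h | h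
    · rw [h]; group
    · rw [h]; exact hg1
    · rw [h]; exact hg2
    · calc g * u * g⁻¹ = (g * z * g⁻¹) * (g * t * g⁻¹) := by rw [h]; group
        _ = u := by rw [hg1, hg2, h]
  -- `k` is a three-cycle
  obtain ⟨r, hrU, hr1, hrz, f1, f2, f3⟩ := cycle hz hkU hkf
  have hnTr : n ∈ Tr (A ⊓ B) B := by
    rcases TwoL.fourz hz.two htU ht1 htz hrU with h | h | h | h
    · exact absurd h hr1
    · exact absurd h hrz
    · -- same action
      rw [h] at f1 f2 f3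
      have h1 : n⁻¹ * k ∈ A ⊔ B := by
        apply hfix
        · calc n⁻¹ * k * z * (n⁻¹ * k)⁻¹ = n⁻¹ * (k * z * k⁻¹) * n := by group
            _ = n⁻¹ * (n * z * n⁻¹) * n := by rw [f1, e1]
            _ = z := by group
        · calc n⁻¹ * k * t * (n⁻¹ * k)⁻¹ = n⁻¹ * (k * t * k⁻¹) * n := by group
            _ = n⁻¹ * (n * t * n⁻¹) * n := by rw [f2, e2]
            _ = t := by group
      have h2 : n = k * (n⁻¹ * k)⁻¹ := by group
      rw [h2]
      exact mul_mem hkTr (inv_mem (hJTr h1))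
    · -- inverse action
      rw [h] at f1 f2 f3
      have hzz : z * z = 1 := TwoL.zz hz.two
      have hzt : z * (z * t) = t := by rw [← mul_assoc, hzz, one_mul]
      rw [hzt] at f2 f3
      have h1 : n * k ∈ A ⊔ B := by
        apply hfix
        · calc n * k * z * (n * k)⁻¹ = n * (k * z * k⁻¹) * n⁻¹ := by group
            _ = z := by rw [f1, e3]
        · calc n * k * t * (n * k)⁻¹ = n * (k * t * k⁻¹) * n⁻¹ := by group
            _ = t := by rw [f3, e1]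
      have h2 : n = (n * k) * k⁻¹ := by group
      rw [h2]
      exact mul_mem (hJTr h1) (inv_mem hkTr)
  -- commutators
  obtain ⟨a, ha, haB⟩ := hz.two.exists_not₁
  obtain ⟨b, hb, hbA⟩ := hz.two.exists_not₂
  have hab : a * b * a⁻¹ * b⁻¹ ≠ 1 := by
    intro h
    have h1 : a * b = b * a := by
      have h2 := mul_inv_eq_one.1 h
      exact mul_inv_eq_iff_eq_mul.1 h2
    rcases hz.two.comm a ha b hb h1 with h3 | h3
    · exact haB h3
    · exact hbA h3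
  apply hf _ (hz.two.br a ha b hb) hab
  set u1 := n * a * n⁻¹ * a⁻¹ with hu1
  set u2 := n * b * n⁻¹ * b⁻¹ with hu2
  have hu1U : u1 ∈ A ⊓ B := hA a ha
  have hu2U : u2 ∈ A ⊓ B := hnTr.2 b hb
  have ha' : n * a * n⁻¹ = u1 * a := by rw [hu1]; group
  have hb' : n * b * n⁻¹ = u2 * b := by rw [hu2]; group
  have c1 : b * u1 = u1 * b := TwoE.comm_of_sq hz.two.sq₂ hb hu1U.2
  have c2 : a * u2 = u2 * a := TwoE.comm_of_sq hz.two.sq₁ ha hu2U.1
  have c3 : u1 * u2 = u2 * u1 := TwoE.comm_of_sq hz.two.sq₁ hu1U.1 hu2U.1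
  have c4 : Commute u1 b := c1.symm
  have c5 : Commute u2 a := c2.symm
  have c6 : Commute u1 u2 := c3
  have c7 : Commute u1 a := TwoE.comm_of_sq hz.two.sq₁ hu1U.1 ha
  have c8 : Commute u2 b := TwoE.comm_of_sq hz.two.sq₂ hu2U.2 hb
  calc n * (a * b * a⁻¹ * b⁻¹) * n⁻¹ = (n * a * n⁻¹) * (n * b * n⁻¹) * (n * a * n⁻¹)⁻¹ * (n * b * n⁻¹)⁻¹ := by group
    _ = u1 * a * (u2 * b) * (u1 * a)⁻¹ * (u2 * b)⁻¹ := by rw [ha', hb']
    _ = u1 * (a * u2) * b * (a⁻¹ * u1⁻¹) * (b⁻¹ * u2⁻¹) := by group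
    _ = u1 * (u2 * a) * b * (u1⁻¹ * a⁻¹) * (u2⁻¹ * b⁻¹) := by
        rw [c5.eq.symm, (c7.inv_inv.eq : u1⁻¹ * a⁻¹ = a⁻¹ * u1⁻¹), (c8.inv_inv.eq : u2⁻¹ * b⁻¹ = b⁻¹ * u2⁻¹)]
    _ = u1 * u2 * a * (b * u1⁻¹) * a⁻¹ * u2⁻¹ * b⁻¹ := by group
    _ = u1 * u2 * a * (u1⁻¹ * b) * a⁻¹ * u2⁻¹ * b⁻¹ := by rw [(c4.inv_left.eq : u1⁻¹ * b = b * u1⁻¹)]
    _ = u1 * u2 * (a * u1⁻¹) * b * (a⁻¹ * u2⁻¹) * b⁻¹ := by group
    _ = u1 * u2 * (u1⁻¹ * a) * b * (u2⁻¹ * a⁻¹) * b⁻¹ := by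
        rw [(c7.inv_left.eq : u1⁻¹ * a = a * u1⁻¹), (c5.inv_inv.eq : u2⁻¹ * a⁻¹ = a⁻¹ * u2⁻¹)]
    _ = u1 * u2 * u1⁻¹ * a * (b * u2⁻¹) * a⁻¹ * b⁻¹ := by group
    _ = u1 * u2 * u1⁻¹ * a * (u2⁻¹ * b) * a⁻¹ * b⁻¹ := by rw [(c8.inv_left.eq : u2⁻¹ * b = b * u2⁻¹)]
    _ = (u1 * u2) * u1⁻¹ * (a * u2⁻¹) * b * a⁻¹ * b⁻¹ := by group
    _ = (u2 * u1) * u1⁻¹ * (u2⁻¹ * a) * b * a⁻¹ * b⁻¹ := by rw [c3, (c5.inv_left.eq : u2⁻¹ * a = a * u2⁻¹)]
    _ = a * b * a⁻¹ * b⁻¹ := by group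

end trip

/-- two involutions are conjugate, or there is an involution commuting with both whose product with the first
is conjugate to one of them -/
theorem conj_or [Finite L] {e d : L} (hee : e * e = 1) (hdd : d * d = 1) :
    (∃ k : ℕ, (e * d) ^ k * e * ((e * d) ^ k)⁻¹ = d) ∨
    ∃ k : ℕ, (e * d) ^ k ≠ 1 ∧ (e * d) ^ k * (e * d) ^ k = 1 ∧ (∃ g : L, g * e * g⁻¹ = e * (e * d) ^ k ∨
      g * d * g⁻¹ = e * (e * d) ^ k) := by
  have hei : e⁻¹ = e := inv_eq_of_mul_eq_one_left hee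
  have hdi : d⁻¹ = d := inv_eq_of_mul_eq_one_left hdd
  set x := e * d with hx
  have hexe : e * x * e = x⁻¹ := by
    rw [hx, mul_inv_rev, hei, hdi]
    calc e * (e * d) * e = (e * e) * d * e := by group
      _ = d * e := by rw [hee, one_mul]
  have hxe : ∀ k : ℕ, e * x ^ k = (x ^ k)⁻¹ * e := by
    intro k
    induction k with
    | zero => simp
    | succ k ih =>
      rw [pow_succ, ← mul_assoc, ih, mul_inv_rev]
      have h1 : e * x = x⁻¹ * e := by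
        calc e * x = e * x * (e * e) := by rw [hee, mul_one]
          _ = (e * x * e) * e := by group
          _ = x⁻¹ * e := by rw [hexe]
      calc (x ^ k)⁻¹ * e * x = (x ^ k)⁻¹ * (e * x) := by group
        _ = (x ^ k)⁻¹ * (x⁻¹ * e) := by rw [h1]
        _ = ((x ^ k)⁻¹ * x⁻¹) * e := by group
        _ = (x * x ^ k)⁻¹ * e := by rw [mul_inv_rev x (x ^ k)]
        _ = (x ^ k * x)⁻¹ * e := by rw [pow_mul_comm']
        _ = x⁻¹ * (x ^ k)⁻¹ * e := by rw [mul_inv_rev (x ^ k) x]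
  -- conjugating `e` by powers
  have hce : ∀ k : ℕ, x ^ k * e * (x ^ k)⁻¹ = x ^ (2 * k) * e := by
    intro k
    have h1 : e * (x ^ k)⁻¹ = x ^ k * e := by
      have h2 := hxe k
      have h3 : x ^ k = e * (x ^ k)⁻¹ * e := by
        calc x ^ k = (e * e) * x ^ k := by rw [hee, one_mul]
          _ = e * (e * x ^ k) := by group
          _ = e * ((x ^ k)⁻¹ * e) := by rw [h2]
          _ = _ := by group
      calc e * (x ^ k)⁻¹ = e * (x ^ k)⁻¹ * (e * e) := by rw [hee, mul_one]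
        _ = (e * (x ^ k)⁻¹ * e) * e := by group
        _ = x ^ k * e := by rw [← h3]
    rw [mul_assoc, h1, ← mul_assoc, ← pow_add, two_mul]
  have hd : d = e * x := by rw [hx, ← mul_assoc, hee, one_mul]
  have hn : 0 < orderOf x := orderOf_pos x
  rcases Nat.even_or_odd' (orderOf x) with ⟨m, hm | hm⟩
  · right
    have hm0 : 0 < m := by omega
    have h1 : x ^ m ≠ 1 := by
      intro h
      have := Nat.le_of_dvd hm0 (orderOf_dvd_of_pow_eq_one h)
      omega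
    have h2 : x ^ m * x ^ m = 1 := by
      rw [← pow_add, ← two_mul, ← hm, pow_orderOf_eq_one]
    have h2i : (x ^ m)⁻¹ = x ^ m := inv_eq_of_mul_eq_one_left h2
    have h3 : e * x ^ m = x ^ m * e := by rw [hxe, h2i]
    refine ⟨m, h1, h2, ?_⟩
    rcases Nat.even_or_odd' m with ⟨j, hj | hj⟩
    · refine ⟨x ^ j, Or.inl ?_⟩
      rw [hce, ← hj, h3]
    · refine ⟨x ^ j * e, Or.inr ?_⟩
      have h4 : e * d * e⁻¹ = x * e := by rw [hei, hx]
      calc x ^ j * e * d * (x ^ j * e)⁻¹ = x ^ j * (e * d * e⁻¹) * (x ^ j)⁻¹ := by group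
        _ = x ^ j * (x * e) * (x ^ j)⁻¹ := by rw [h4]
        _ = (x ^ j * x) * e * (x ^ j)⁻¹ := by group
        _ = (x * x ^ j) * e * (x ^ j)⁻¹ := by rw [pow_mul_comm']
        _ = x * (x ^ j * e * (x ^ j)⁻¹) := by group
        _ = x * (x ^ (2 * j) * e) := by rw [hce]
        _ = x ^ (2 * j + 1) * e := by rw [pow_succ' x (2 * j)]; group
        _ = x ^ m * e := by rw [← hj]
        _ = e * x ^ m := h3.symm
  · left
    -- `x ^ (2m+1) = 1`
    have h1 : x ^ (2 * m + 1) = 1 := by rw [← hm, pow_orderOf_eq_one]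
    refine ⟨m, ?_⟩
    rw [hce]
    have h2 : x ^ (2 * m) = x⁻¹ := by
      rw [pow_succ] at h1
      exact eq_inv_of_mul_eq_one_left h1
    rw [h2, hx, mul_inv_rev, hei, hdi, mul_assoc, hee, mul_one]

section two

variable [Finite L] {z : L} {A B : Subgroup L} (hz : Dat z A B)
  (hnf : ∀ t ∈ DD z, t * z = z * t → t ∈ A ⊓ B) (hUD : ∀ u ∈ A ⊓ B, u ≠ 1 → u ∈ DD z)
include hz hnf

theorem nf_all {x : L} (hxD : x ∈ DD z) {A' B' : Subgroup L} (hx : Dat x A' B') : ∀ t ∈ DD z, t * x = x * t → t ∈ A' ⊓ B' := by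
  intro t ht htx
  obtain ⟨g, rfl⟩ := hxD
  have h1 : g⁻¹ * t * g ∈ A ⊓ B := by
    apply hnf
    · have := DD_conj z g⁻¹ t ht
      rwa [inv_inv] at this
    · calc g⁻¹ * t * g * z = g⁻¹ * (t * (g * z * g⁻¹)) * g := by group
        _ = g⁻¹ * (g * z * g⁻¹ * t) * g := by rw [htx]
        _ = z * (g⁻¹ * t * g) := by group
  rcases (hz.conj g).uniq hx with ⟨h2, h3⟩ | ⟨h2, h3⟩
  · rw [h2, h3]
    exact ⟨mem_conj.2 h1.1, mem_conj.2 h1.2⟩
  · rw [h2, h3]
    exact ⟨mem_conj.2 h1.2, mem_conj.2 h1.1⟩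

include hUD

theorem datU {u : L} (hu : u ∈ A ⊓ B) (hu1 : u ≠ 1) : Dat u A B := by
  obtain ⟨A', B', h⟩ := exists_dat hz (hUD u hu hu1)
  rcases hz.near h hu with ⟨rfl, rfl⟩ | ⟨rfl, rfl⟩
  · exact h
  · exact h.symm

/-- `N(A) ∩ C(y) = A` -/
theorem claim1 {n y : L} (hy : y ∈ A) (hyB : y ∉ B) (hny : n * y = y * n) (hA : ∀ a ∈ A, n * a * n⁻¹ ∈ A)
    (hU : ∀ u ∈ A ⊓ B, n * u * n⁻¹ ∈ A ⊓ B) : n ∈ A := by
  by_contra hn
  have hf : ∀ u ∈ A ⊓ B, u ≠ 1 → n * u * n⁻¹ ≠ u := by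
    intro u hu hu1 h
    apply hn
    exact TwoL.cent (datU hz hnf hUD hu hu1).two hy hyB
      (mem_centralizer_singleton_iff.2 (mul_inv_eq_iff_eq_mul.1 h)) hny
  obtain ⟨t, htU, ht1, htz, e1, e2, e3⟩ := cycle hz hU hf
  have h3 : n * n * n ∈ A := by
    refine TwoL.cent hz.two hy hyB (mem_centralizer_singleton_iff.2 (mul_inv_eq_iff_eq_mul.1 ?_)) ?_
    · calc n * n * n * z * (n * n * n)⁻¹ = n * (n * (n * z * n⁻¹) * n⁻¹) * n⁻¹ := by group
        _ = z := by rw [e1, e2, e3]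
    · have hc : Commute n y := hny
      exact ((hc.mul_left hc).mul_left hc).eq
  exact no_triv hz (triv_A hz hy hyB hny hA hU h3) hU hf

/-- elements of the class commuting with `y ∈ A \ B` lie in `A ⊓ B` -/
theorem claim2 (hU : ∃ t ∈ A ⊓ B, t ≠ 1 ∧ t ≠ z) {y d : L} (hy : y ∈ A) (hyB : y ∉ B) (hd : d ∈ DD z)
    (hdy : d * y = y * d) : d ∈ A ⊓ B := by
  by_contra hdU
  obtain ⟨Ad, Bd, hdd⟩ := exists_dat hz hd
  have key : ∀ e ∈ A ⊓ B, e ≠ 1 → ∃ g : L, g * y = y * g ∧ g * e * g⁻¹ = d := by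
    intro e he he1
    have hey : e * y = y * e := TwoE.comm_of_sq hz.two.sq₁ he.1 hy
    have hcom : ∀ k : ℕ, Commute ((e * d) ^ k) y := fun k =>
      (Commute.mul_left (show Commute e y from hey) (show Commute d y from hdy)).pow_left k
    have hde := datU hz hnf hUD he he1
    rcases conj_or (TwoL.sqU hz.two e he) (TwoL.zz hdd.two) with ⟨k, hk⟩ | ⟨k, hk1, hk2, g, hg⟩
    · exact ⟨_, (hcom k).eq, hk⟩
    · exfalso
      have hcD : e * (e * d) ^ k ∈ DD z := by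
        rcases hg with hg | hg
        · rw [← hg]; exact DD_conj z g e (hUD e he he1)
        · rw [← hg]; exact DD_conj z g d hd
      have hee := TwoL.sqU hz.two e he
      have hddd := TwoL.zz hdd.two
      -- `(e d)^k` commutes with `e` and `d`
      have hinv : ((e * d) ^ k)⁻¹ = (e * d) ^ k := inv_eq_of_mul_eq_one_left hk2
      have hei : e⁻¹ = e := inv_eq_of_mul_eq_one_left hee
      have hdi : d⁻¹ = d := inv_eq_of_mul_eq_one_left hddd
      have hce : e * (e * d) ^ k * e⁻¹ = (e * d) ^ k := by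
        have h1 : e * (e * d) ^ k * e⁻¹ = (e * (e * d) * e⁻¹) ^ k := by
          rw [conj_pow]
        have h2 : e * (e * d) * e⁻¹ = (e * d)⁻¹ := by
          rw [mul_inv_rev, hei, hdi, ← mul_assoc, hee, one_mul]
        rw [h1, h2, inv_pow, hinv]
      have hcd : (e * d) ^ k * (e * d) = (e * d) * (e * d) ^ k := pow_mul_comm' _ _
      have hce' : (e * d) ^ k * e = e * (e * d) ^ k := (mul_inv_eq_iff_eq_mul.1 hce).symm
      have hcd' : d * (e * d) ^ k = (e * d) ^ k * d := by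
        apply mul_left_cancel (a := e)
        calc e * (d * (e * d) ^ k) = (e * d) * (e * d) ^ k := by group
          _ = (e * d) ^ k * (e * d) := hcd.symm
          _ = ((e * d) ^ k * e) * d := by group
          _ = (e * (e * d) ^ k) * d := by rw [hce']
          _ = e * ((e * d) ^ k * d) := by group
      have h1 : e * (e * d) ^ k ∈ A ⊓ B := by
        apply nf_all hz hnf (hUD e he he1) hde _ hcD
        rw [mul_assoc, hce']
      have h2 : (e * d) ^ k ∈ A ⊓ B := by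
        have : (e * d) ^ k = e⁻¹ * (e * (e * d) ^ k) := by group
        rw [this]
        exact mul_mem (inv_mem he) h1
      exact hdU (nf_all hz hnf (hUD _ h2 hk1) (datU hz hnf hUD h2 hk1) d hd hcd')
  obtain ⟨t, htU, ht1, htz⟩ := hU
  obtain ⟨g1, hg1y, hg1⟩ := key z hz.self_mem hz.two.z_ne
  obtain ⟨g2, hg2y, hg2⟩ := key t htU ht1
  set n := g2⁻¹ * g1 with hn
  have hnz : n * z * n⁻¹ = t := by
    calc n * z * n⁻¹ = g2⁻¹ * (g1 * z * g1⁻¹) * g2 := by rw [hn]; group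
      _ = g2⁻¹ * (g2 * t * g2⁻¹) * g2 := by rw [hg1, hg2]
      _ = t := by group
  have hny : n * y = y * n := by
    have h1 : Commute g1 y := hg1y
    have h2 : Commute g2 y := hg2y
    exact (h2.inv_left.mul_left h1).eq
  have hnyi : n⁻¹ * y * n = y := by
    calc n⁻¹ * y * n = n⁻¹ * (y * n) := by group
      _ = n⁻¹ * (n * y) := by rw [hny]
      _ = y := by group
  have h1 := hz.conj n
  rw [hnz] at h1
  have hdt := datU hz hnf hUD htU ht1
  have h2 : A.map (MulAut.conj n).toMonoidHom = A ∧ B.map (MulAut.conj n).toMonoidHom = B := by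
    rcases hdt.uniq h1 with h | ⟨h, -⟩
    · exact h
    · exfalso
      apply hyB
      rw [← h, mem_conj, hnyi]
      exact hy
  have hnA : ∀ a ∈ A, n * a * n⁻¹ ∈ A := by
    intro a ha
    have h3 : n * a * n⁻¹ ∈ A.map (MulAut.conj n).toMonoidHom := ⟨a, ha, rfl⟩
    rwa [h2.1] at h3
  have hnB : ∀ a ∈ B, n * a * n⁻¹ ∈ B := by
    intro a ha
    have h3 : n * a * n⁻¹ ∈ B.map (MulAut.conj n).toMonoidHom := ⟨a, ha, rfl⟩
    rwa [h2.2] at h3
  have h4 := claim1 hz hnf hUD hy hyB hny hnA (fun u hu => ⟨hnA u hu.1, hnB u hu.2⟩)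
  apply htz
  rw [← hnz, TwoE.comm_of_sq hz.two.sq₁ h4 hz.self_mem.1, mul_inv_cancel_right]

/-- the class has `3` elements modulo `64` -/
theorem card_mod (hU : ∃ t ∈ A ⊓ B, t ≠ 1 ∧ t ≠ z) : Nat.card (DD z) % 64 = 3 := by
  have hsymm : ∀ t ∈ DD z, t * z = z * t → t ∈ B ⊓ A := fun t h1 h2 => (hnf t h1 h2).symm
  have hUD' : ∀ u ∈ B ⊓ A, u ≠ 1 → u ∈ DD z := fun u h1 h2 => hUD u h1.symm h2
  have hU' : ∃ t ∈ B ⊓ A, t ≠ 1 ∧ t ≠ z := by
    obtain ⟨t, h1, h2⟩ := hU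
    exact ⟨t, h1.symm, h2⟩
  have hfU : Finite (A ⊓ B : Subgroup L) := inferInstance
  have h3 : Nat.card {u : L // u ∈ A ⊓ B ∧ u ≠ 1} = 3 := by
    have h1 : Nat.card {u : (A ⊓ B : Subgroup L) // u ≠ 1} = 3 := by
      classical
      have hF := Fintype.ofFinite (A ⊓ B : Subgroup L)
      rw [Nat.card_eq_fintype_card, Fintype.card_subtype_compl, Fintype.card_subtype_eq, ← Nat.card_eq_fintype_card,
        hz.two.inter]
    rw [← h1]
    exact Nat.card_congr ⟨fun u => ⟨⟨u.1, u.2.1⟩, fun h => u.2.2 (congrArg Subtype.val h)⟩,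
      fun u => ⟨u.1.1, u.1.2, fun h => u.2 (Subtype.ext h)⟩, fun u => rfl, fun u => rfl⟩
  have key := burn (DD z) (fun g x hx => DD_conj z g x hx) (A ⊔ B) 3 (by
    intro g hg hg1
    rw [← h3]
    refine Nat.card_congr (Equiv.subtypeEquivRight fun d => ?_)
    constructor
    · rintro ⟨hd, hgd⟩
      have hd1 : d ≠ 1 := by
        obtain ⟨A', B', h⟩ := exists_dat hz hd
        exact h.two.z_ne
      refine ⟨?_, hd1⟩
      -- a power of `g` of order two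
      have hg2 : ∃ k : ℕ, g ^ k ≠ 1 ∧ g ^ k * g ^ k = 1 := by
        have hdvd : orderOf g ∣ 2 ^ 6 := by
          have h1 := Subgroup.orderOf_dvd_natCard (A ⊔ B) hg
          rw [TwoL.card_J hz.two] at h1
          exact h1
        obtain ⟨m, -, hm⟩ := (Nat.dvd_prime_pow Nat.prime_two).1 hdvd
        have hm0 : m ≠ 0 := by
          rintro rfl
          rw [pow_zero, orderOf_eq_one_iff] at hm
          exact hg1 hm
        obtain ⟨m', rfl⟩ := Nat.exists_eq_succ_of_ne_zero hm0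
        refine ⟨2 ^ m', ?_, ?_⟩
        · intro h
          have h1 := Nat.le_of_dvd (by positivity) (orderOf_dvd_of_pow_eq_one h)
          rw [hm, Nat.succ_eq_add_one, pow_succ] at h1
          have : 0 < 2 ^ m' := by positivity
          omega
        · rw [← pow_add, ← two_mul, ← pow_succ', ← Nat.succ_eq_add_one, ← hm, pow_orderOf_eq_one]
      obtain ⟨k, hk1, hk2⟩ := hg2
      have hkJ : g ^ k ∈ A ⊔ B := pow_mem hg k
      have hkd : d * g ^ k = g ^ k * d := by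
        have h1 : Commute g d := hgd
        exact ((h1.pow_left k).eq).symm
      have hkAB : g ^ k ∈ A ∨ g ^ k ∈ B := by
        obtain ⟨a, ha, b, hb, hab⟩ := (hz.two.mem_sup _).1 hkJ
        rw [hab]
        exact hz.two.sq_mul ha hb (by rw [← hab]; exact hk2)
      by_cases hkA : g ^ k ∈ A
      · by_cases hkB : g ^ k ∈ B
        · exact nf_all hz hnf (hUD _ ⟨hkA, hkB⟩ hk1) (datU hz hnf hUD ⟨hkA, hkB⟩ hk1) d hd hkd
        · exact claim2 hz hnf hUD hU hkA hkB hd hkd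
      · exact (claim2 hz.symm hsymm hUD' hU' (hkAB.resolve_left hkA) hkA hd hkd).symm
    · rintro ⟨hd, hd1⟩
      exact ⟨hUD d hd hd1, hz.two.comm_inf hg hd⟩)
  rw [TwoL.card_J hz.two] at key
  omega

end two

end Cfsg.Agent.H223.J3Pron
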