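import Cfsg.Agent.H223.J3Pron.Model
import Cfsg.Agent.H408.Pron.Defs
import Cfsg.Agent.LThreeMB.ZStar

/-!
# Overgroups of the Sylow 2-subgroup of `J₂`, `J₃`: the subgroups of odd index are pronormal (helper223)

`po_of_loc`: a group with an involution centralizer `2^{1+4}_-:A₅` of odd index and two arithmetical conditions.
-/

set_option autoImplicit false
set_option linter.unusedSectionVars false

namespace Cfsg.Agent.H223.J3Pron

open Subgroup Cfsg.Agent.H788.SF Cfsg.Agent.H788.SF.JModel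
open Cfsg.Agent.J2Type.Model Cfsg.Agent.J2Type.CStruct Cfsg.Agent.J2Type.SPFacts Cfsg.Agent.J3Type.Loc
open Cfsg.Agent.J3Type.OneClass
open scoped commutatorElement

universe u

section comap

variable {G : Type*} [Group G]

theorem card_sub {A K : Subgroup G} (h : A ≤ K) : Nat.card (A.subgroupOf K) = Nat.card A :=
  Nat.card_congr (Subgroup.subgroupOfEquivOfLe h).toEquiv

theorem TwoX.comap {T : Subgroup G} {z : G} {A B : Subgroup G} (h : TwoX T z A B) (K : Subgroup G) (hT : T ≤ K)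
    (hz : z ∈ K) : TwoX (T.subgroupOf K) (⟨z, hz⟩ : K) (A.subgroupOf K) (B.subgroupOf K) := by
  have hA : A ≤ K := h.two.le₁.trans hT
  have hB : B ≤ K := h.two.le₂.trans hT
  have lift : ∀ {x : G}, x ∈ T → ∃ y : K, y ∈ T.subgroupOf K ∧ (y : G) = x := fun {x} hx => ⟨⟨x, hT hx⟩, hx, rfl⟩
  refine ⟨?_, ?_⟩
  · exact
    { le₁ := Subgroup.comap_mono h.two.le₁
      le₂ := Subgroup.comap_mono h.two.le₂
      sq₁ := fun e he => Subtype.ext (h.two.sq₁ e he)
      sq₂ := fun e he => Subtype.ext (h.two.sq₂ e he)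
      card₁ := by rw [card_sub hA, h.two.card₁]
      card₂ := by rw [card_sub hB, h.two.card₂]
      inter := by
        have h1 : A.subgroupOf K ⊓ B.subgroupOf K = (A ⊓ B).subgroupOf K := rfl
        rw [h1, card_sub (inf_le_left.trans hA), h.two.inter]
      z_ne := fun h1 => h.two.z_ne (congrArg Subtype.val h1)
      z_mem := h.two.z_mem
      z_comm := fun t ht => Subtype.ext (h.two.z_comm t ht)
      center := by
        intro t ht hs
        rcases h.two.center t ht (fun s hs' => congrArg Subtype.val (hs ⟨s, hT hs'⟩ hs')) with h1 | h1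
        · exact Or.inl (Subtype.ext h1)
        · exact Or.inr (Subtype.ext h1)
      z_der := by
        have h1 : (T.subgroupOf K).map K.subtype = T := by
          rw [Subgroup.subgroupOf_map_subtype, inf_eq_left]; exact hT
        have h2 := h.two.z_der
        rw [← h1, ← Subgroup.map_commutator] at h2
        obtain ⟨y, hy, hyz⟩ := h2
        have h3 : y = ⟨z, hz⟩ := Subtype.ext hyz
        rw [← h3]; exact hy
      comm := fun e he e' he' hc => h.two.comm e he e' he' (congrArg Subtype.val hc)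
      br := fun a ha b hb => h.two.br a ha b hb
      cases := by
        intro t ht
        rcases h.two.cases t ht with ⟨a, ha, b, hb, h1⟩ | ⟨h1, h2, e, he, h3⟩
        · exact Or.inl ⟨⟨a, hA ha⟩, ha, ⟨b, hB hb⟩, hb, Subtype.ext h1⟩
        · exact Or.inr ⟨fun e he => h1 e he, fun e he => h2 e he, ⟨e, hA he.1⟩, he, fun hc => h3 (congrArg Subtype.val hc)⟩
      swap := by
        obtain ⟨t, ht, h1⟩ := h.two.swap
        exact ⟨⟨t, hT ht⟩, ht, fun e he => h1 e he⟩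
      cardT := by rw [card_sub hT, h.two.cardT] }
  · intro t ht htt hA' hB'
    obtain ⟨⟨c, hc, h1, h2⟩, h3⟩ := h.out t ht (congrArg Subtype.val htt) hA' hB'
    refine ⟨⟨⟨c, hT hc⟩, hc, Subtype.ext h1, Subtype.ext h2⟩, fun d hd hdt => ?_⟩
    rcases h3 d hd (congrArg Subtype.val hdt) with h4 | h4
    · exact Or.inl (Subtype.ext h4)
    · exact Or.inr (Subtype.ext h4)

/-- an involution acting without fixed points inverts -/
theorem inv_of_fpf {N : Subgroup G} [Finite N] {e : G} (he : e * e = 1) (hN : ∀ n ∈ N, e * n * e⁻¹ ∈ N)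
    (hf : ∀ n ∈ N, n * e = e * n → n = 1) : ∀ n ∈ N, e * n * e⁻¹ = n⁻¹ := by
  have hinj : Function.Injective (fun n : N => (⟨(n : G)⁻¹ * (e * n * e⁻¹), N.mul_mem (N.inv_mem n.2) (hN n n.2)⟩ : N)) := by
    intro n m h
    have h1 : (n : G)⁻¹ * (e * n * e⁻¹) = (m : G)⁻¹ * (e * m * e⁻¹) := congrArg Subtype.val h
    have h2 : (m : G) * (n : G)⁻¹ = 1 := by
      apply hf _ (N.mul_mem m.2 (N.inv_mem n.2))
      calc (m : G) * (n : G)⁻¹ * e = m * ((n : G)⁻¹ * (e * n * e⁻¹)) * (e * (n : G)⁻¹) := by group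
        _ = m * ((m : G)⁻¹ * (e * m * e⁻¹)) * (e * (n : G)⁻¹) := by rw [h1]
        _ = e * (m * (n : G)⁻¹) := by group
    exact Subtype.ext (mul_inv_eq_one.1 h2).symm
  intro n hn
  obtain ⟨k, hk⟩ := Finite.surjective_of_injective hinj ⟨n, hn⟩
  have h1 : (k : G)⁻¹ * (e * k * e⁻¹) = n := congrArg Subtype.val hk
  have hei : e⁻¹ = e := inv_eq_of_mul_eq_one_left he
  rw [← h1]
  calc e * ((k : G)⁻¹ * (e * k * e⁻¹)) * e⁻¹ = e * (k : G)⁻¹ * e * k * (e⁻¹ * e⁻¹) := by group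
    _ = e * (k : G)⁻¹ * e⁻¹ * k := by rw [hei, he, mul_one]
    _ = ((k : G)⁻¹ * (e * k * e⁻¹))⁻¹ := by group

end comap

/-- the elements of the model over the identity permutation -/
def T1 : Finset SP := ((Finset.univ : Finset (Fin 5 → ZMod 2)).filter fun s => ∑ i, s i = 0).image fun s => ⟨1, s⟩

theorem card_T1 : T1.card = 16 := by decide +kernel

theorem card_Q {C : Type*} [Group C] {Q : Subgroup C} {z : C} {v : Fin 5 → C} {ρ : C →* SP} (M : IsModel Q z v ρ) :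
    Nat.card Q = 32 := by
  have hmem : ∀ p : SP, p ∈ T1 ↔ p.σ = 1 ∧ ∑ i, p.s i = 0 := by
    intro p
    constructor
    · intro h
      obtain ⟨s, hs, rfl⟩ := Finset.mem_image.1 h
      exact ⟨rfl, (Finset.mem_filter.1 hs).2⟩
    · rintro ⟨h1, h2⟩
      exact Finset.mem_image.2 ⟨p.s, Finset.mem_filter.2 ⟨Finset.mem_univ _, h2⟩, SP.ext h1.symm rfl⟩
  have h1 := card_fiber M T1 (fun g hg => ⟨by rw [((hmem g).1 hg).1]; decide, ((hmem g).1 hg).2⟩)
  rw [card_T1] at h1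
  rw [show (32 : ℕ) = 2 * 16 by norm_num, ← h1]
  refine Nat.card_congr (Equiv.subtypeEquivRight fun x => ?_)
  rw [M.mem_Q, hmem]
  exact ⟨fun h => ⟨h, ((M.range (ρ x)).1 ⟨x, rfl⟩).2⟩, fun h => h.1⟩

section G

variable {G : Type u} [Group G] [Finite G]

/-- the model of the centralizer of `z`, with an involution `f` outside `Q` and `w` normalising `T` -/
structure Loc (z : G) (Q : Subgroup (centralizer ({z} : Set G))) (v : Fin 5 → centralizer ({z} : Set G))
    (ρ : centralizer ({z} : Set G) →* SP) (f w : centralizer ({z} : Set G)) : Prop where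
  M : IsModel Q (zc z) v ρ
  hf : ρ f = g0
  hf2 : f * f = 1
  hw : ρ w = g3
  card_C : Nat.card (centralizer ({z} : Set G)) = 1920
  hv : ∃ g : G, g * z * g⁻¹ = (v 4 : G)

variable {z : G} {Q : Subgroup (centralizer ({z} : Set G))} {v : Fin 5 → centralizer ({z} : Set G)}
  {ρ : centralizer ({z} : Set G) →* SP} {f w : centralizer ({z} : Set G)}

/-- the Sylow subgroup -/
def SS (ρ : centralizer ({z} : Set G) →* SP) : Subgroup G := (Tc ρ).map (centralizer ({z} : Set G)).subtype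

def AA (f : centralizer ({z} : Set G)) : Subgroup G :=
  (centralizer ({f} : Set (centralizer ({z} : Set G)))).map (centralizer ({z} : Set G)).subtype

theorem Loc.twoX (F : Loc z Q v ρ f w) : TwoX (SS ρ) z (AA f) (AA (v 3 * f * (v 3)⁻¹)) :=
  (J3Pron.twoX F.M F.hf F.hf2).map (centralizer ({z} : Set G)).subtype (Subgroup.subtype_injective _)

theorem mem_SS {x : G} : x ∈ SS ρ ↔ ∃ h : x ∈ centralizer ({z} : Set G), (⟨x, h⟩ : centralizer ({z} : Set G)) ∈ Tc ρ := by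
  constructor
  · rintro ⟨c, hc, rfl⟩
    exact ⟨c.2, hc⟩
  · rintro ⟨h, hc⟩
    exact ⟨_, hc, rfl⟩

theorem Loc.zz (F : Loc z Q v ρ f w) : z * z = 1 := congrArg Subtype.val F.M.z_sq

theorem Loc.v4U (F : Loc z Q v ρ f w) : (v 4 : G) ∈ AA f ⊓ AA (v 3 * f * (v 3)⁻¹) := by
  refine ⟨⟨v 4, (mem_E₁ F.M F.hf F.hf2 _).2 ?_, rfl⟩, ⟨v 4, (mem_E₂ F.M F.hf F.hf2 _).2 ?_, rfl⟩⟩
  · rw [rho_v F.M 4]; exact p4_B.1
  · rw [rho_v F.M 4]; exact p4_B.2

theorem Loc.v4_ne (F : Loc z Q v ρ f w) : (v 4 : G) ≠ 1 := by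
  intro h
  apply v_ne_one F.M 4 0
  rw [zp_zero, one_mul]
  exact Subtype.ext h

theorem Loc.v4_ne_z (F : Loc z Q v ρ f w) : (v 4 : G) ≠ z := by
  intro h
  apply zv_ne_z F.M 0 4
  rw [zp_zero, one_mul]
  exact Subtype.ext h

theorem Loc.hasModel (F : Loc z Q v ρ f w) : HasModel z := by
  refine ⟨?_, F.card_C, Q, v, ρ, F.M⟩
  refine orderOf_eq_prime (by rw [pow_two, F.zz]) ?_
  exact F.twoX.two.z_ne

/-- an element centralizing `z` and `v 4` normalises `S` -/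
theorem Loc.norm (F : Loc z Q v ρ f w) {g : G} (h1 : g * z = z * g) (h2 : g * (v 4 : G) = (v 4 : G) * g) {s : G}
    (hs : s ∈ SS ρ) : g * s * g⁻¹ ∈ SS ρ := by
  obtain ⟨hc, hs'⟩ := mem_SS.1 hs
  have hg : g ∈ centralizer ({z} : Set G) := mem_centralizer_singleton_iff.2 h1
  have h3 : (ρ ⟨g, hg⟩).σ 4 = 4 := by
    have h4 : (⟨g, hg⟩ : centralizer ({z} : Set G)) * v 4 = v 4 * ⟨g, hg⟩ := Subtype.ext h2
    exact ((z_comm_v4 F.M).1 h4).1
  exact mem_SS.2 ⟨_, norm_Tc h3 hs'⟩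

theorem odd_eq_one {N : Subgroup G} (hodd : Odd (Nat.card N)) {n : G} (hn : n ∈ N) {S : Subgroup G} {k : ℕ}
    (hS : Nat.card S = 2 ^ k) (hnS : n ∈ S) : n = 1 := by
  have h1 := Subgroup.orderOf_dvd_natCard N hn
  have h2 := Subgroup.orderOf_dvd_natCard S hnS
  rw [hS] at h2
  have h3 : Nat.Coprime (Nat.card N) (2 ^ k) := Nat.Coprime.pow_right _ (Nat.coprime_two_right.2 hodd)
  have h4 : orderOf n ∣ 1 := by
    rw [← h3.gcd_eq_one]
    exact Nat.dvd_gcd h1 h2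
  exact orderOf_eq_one_iff.1 (Nat.dvd_one.1 h4)

/-- a subgroup of odd order normalised by `S` in which `z` has no fixed points is trivial -/
theorem Loc.no_core (F : Loc z Q v ρ f w) {N : Subgroup G} (hodd : Odd (Nat.card N))
    (hN : ∀ s ∈ SS ρ, ∀ n ∈ N, s * n * s⁻¹ ∈ N) (hcz : ∀ n ∈ N, n * z = z * n → n = 1) : N = ⊥ := by
  have hX := F.twoX
  have hzS : z ∈ SS ρ := hX.two.le₁ hX.two.z_mem.1
  have hv4 := F.v4U
  have hvS : (v 4 : G) ∈ SS ρ := hX.two.le₁ hv4.1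
  have hvv : (v 4 : G) * (v 4 : G) = 1 := TwoL.sqU hX.two _ hv4
  -- `v 4` has no fixed points
  have hcv : ∀ n ∈ N, n * (v 4 : G) = (v 4 : G) * n → n = 1 := by
    intro n hn hnv
    obtain ⟨g, hg⟩ := F.hv
    set x : G := (v 4 : G) with hx
    obtain ⟨-, hC, Q', v', ρ', M'⟩ := F.hasModel.conj g hg
    have hQn : Q'.Normal := normal_Q M'
    have hnC : n ∈ centralizer ({x} : Set G) := mem_centralizer_singleton_iff.2 hnv
    set J : Subgroup G := AA f ⊔ AA (v 3 * f * (v 3)⁻¹) with hJ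
    have hJC : J ≤ centralizer ({x} : Set G) := fun j hj =>
      mem_centralizer_singleton_iff.2 (hX.two.comm_inf hj hv4)
    set P : Subgroup (centralizer ({x} : Set G)) := J.subgroupOf (centralizer ({x} : Set G)) with hP
    have hPc : Nat.card P = 64 := by rw [hP, card_sub hJC, hJ, TwoL.card_J hX.two]
    have hQc := card_Q M'
    have hidx : Q'.index = 60 := by
      have h1 := Subgroup.card_mul_index Q'
      rw [hQc, hC] at h1
      omega
    have hrel : (Q' ⊓ P).relIndex P ∣ 4 := by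
      have h1 : Q'.relIndex P ∣ 60 := by rw [← hidx]; exact Subgroup.relIndex_dvd_index_of_normal Q' P
      have h2 : Q'.relIndex P ∣ 64 := by rw [← hPc]; exact Subgroup.relIndex_dvd_card Q' P
      rw [Subgroup.inf_relIndex_right]
      have := Nat.dvd_gcd h1 h2
      norm_num at this
      exact this
    have hU16 : 16 ≤ Nat.card (Q' ⊓ P : Subgroup (centralizer ({x} : Set G))) := by
      have h1 := Subgroup.card_mul_index ((Q' ⊓ P).subgroupOf P)
      rw [card_sub inf_le_right, hPc] at h1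
      have h2 : ((Q' ⊓ P).subgroupOf P).index ≤ 4 := Nat.le_of_dvd (by norm_num) hrel
      by_contra h3
      have h4 : Nat.card (Q' ⊓ P : Subgroup (centralizer ({x} : Set G))) * ((Q' ⊓ P).subgroupOf P).index ≤ 15 * 4 :=
        Nat.mul_le_mul (by omega) h2
      omega
    have hno : Odd (orderOf (⟨n, hnC⟩ : centralizer ({x} : Set G))) := by
      rw [← Subgroup.orderOf_coe]
      obtain ⟨k, hk⟩ := Subgroup.orderOf_dvd_natCard N hn
      show Odd (orderOf n)
      rw [hk] at hodd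
      exact (Nat.odd_mul.1 hodd).1
    have h1 := odd_cent M' hQc (U := Q' ⊓ P) inf_le_left hU16 hno (by
      intro q hq
      -- the commutator lies in `N` and in `Q'`
      have hqS : (q : G) ∈ SS ρ := TwoL.J_le hX.two (show (q : G) ∈ J from hq.2)
      have h2 : (q : G) * n * (q : G)⁻¹ * n⁻¹ ∈ N := N.mul_mem (hN q hqS n hn) (N.inv_mem hn)
      have h3 : q * ⟨n, hnC⟩ * q⁻¹ * (⟨n, hnC⟩ : centralizer ({x} : Set G))⁻¹ ∈ Q' := by
        have h4 : q * ⟨n, hnC⟩ * q⁻¹ * (⟨n, hnC⟩ : centralizer ({x} : Set G))⁻¹ =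
            q * (⟨n, hnC⟩ * q⁻¹ * (⟨n, hnC⟩ : centralizer ({x} : Set G))⁻¹) := by group
        rw [h4]
        exact Q'.mul_mem hq.1 (hQn.conj_mem _ (Q'.inv_mem hq.1) _)
      have h4 : (q : G) * n * (q : G)⁻¹ * n⁻¹ ∈ Q'.map (centralizer ({x} : Set G)).subtype := ⟨_, h3, rfl⟩
      have h5 : Nat.card (Q'.map (centralizer ({x} : Set G)).subtype) = 2 ^ 5 := by
        rw [Subgroup.card_map_of_injective (Subgroup.subtype_injective _), hQc]
        norm_num
      have h6 := odd_eq_one hodd h2 h5 h4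
      apply Subtype.ext
      have h7 : (q : G) * n = n * q := by
        rw [mul_inv_eq_one] at h6
        exact mul_inv_eq_iff_eq_mul.1 h6
      exact h7.symm)
    exact congrArg Subtype.val h1
  -- `z v 4` has no fixed points
  obtain ⟨s, hs, hsv⟩ := TwoL.exists_swap hX.two hv4 F.v4_ne F.v4_ne_z
  have hczv : ∀ n ∈ N, n * (z * (v 4 : G)) = (z * (v 4 : G)) * n → n = 1 := by
    intro n hn hnv
    rw [← hsv] at hnv
    have h1 : s⁻¹ * n * s ∈ N := by
      have := hN s⁻¹ ((SS ρ).inv_mem hs) n hn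
      rwa [inv_inv] at this
    have h2 := hcv _ h1 (by
      calc s⁻¹ * n * s * (v 4 : G) = s⁻¹ * (n * (s * (v 4 : G) * s⁻¹)) * s := by group
        _ = s⁻¹ * (s * (v 4 : G) * s⁻¹ * n) * s := by rw [hnv]
        _ = (v 4 : G) * (s⁻¹ * n * s) := by group)
    have : n = s * (s⁻¹ * n * s) * s⁻¹ := by group
    rw [this, h2]; group
  rw [eq_bot_iff]
  intro n hn
  rw [mem_bot]
  have e1 := inv_of_fpf F.zz (hN z hzS) hcz
  have e2 := inv_of_fpf hvv (hN _ hvS) hcv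
  apply hczv n hn
  apply Eq.symm
  apply mul_inv_eq_iff_eq_mul.1
  calc z * (v 4 : G) * n * (z * (v 4 : G))⁻¹ = z * ((v 4 : G) * n * (v 4 : G)⁻¹) * z⁻¹ := by group
    _ = z * n⁻¹ * z⁻¹ := by rw [e2 n hn]
    _ = n := by rw [e1 _ (N.inv_mem hn), inv_inv]

theorem Loc.w_z (_ : Loc z Q v ρ f w) : (w : G) * z = z * w := mem_centralizer_singleton_iff.1 w.2

theorem Loc.w_v4 (F : Loc z Q v ρ f w) : (w : G) * (v 4 : G) = (v 4 : G) * w := by
  have h : w * v 4 = v 4 * w := by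
    rw [z_comm_v4 F.M, F.hw]
    decide +kernel
  exact congrArg Subtype.val h

theorem Loc.cases_U (F : Loc z Q v ρ f w) {u : G} (hu : u ∈ AA f ⊓ AA (v 3 * f * (v 3)⁻¹)) :
    u = 1 ∨ u = z ∨ u = (v 4 : G) ∨ u = z * (v 4 : G) :=
  TwoL.fourz F.twoX.two F.v4U F.v4_ne F.v4_ne_z hu

theorem Loc.w_U (F : Loc z Q v ρ f w) {u : G} (hu : u ∈ AA f ⊓ AA (v 3 * f * (v 3)⁻¹)) : (w : G) * u = u * w := by
  rcases F.cases_U hu with rfl | rfl | rfl | rfl
  · rw [one_mul, mul_one]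
  · exact F.w_z
  · exact F.w_v4
  · rw [← mul_assoc, F.w_z, mul_assoc, F.w_v4, mul_assoc]

theorem Loc.notQ (F : Loc z Q v ρ f w) {t : G} (ht : t ∈ AA f ∧ t ∉ AA (v 3 * f * (v 3)⁻¹) ∨
    t ∈ AA (v 3 * f * (v 3)⁻¹) ∧ t ∉ AA f) (htC : t ∈ centralizer ({z} : Set G)) :
    (⟨t, htC⟩ : centralizer ({z} : Set G)) ∉ Q := by
  intro hQ
  have hσ := (F.M.mem_Q _).1 hQ
  rcases ht with ⟨⟨c, hc, rfl⟩, h2⟩ | ⟨⟨c, hc, rfl⟩, h2⟩
  · apply h2
    refine ⟨c, (mem_E₂ F.M F.hf F.hf2 c).2 ?_, rfl⟩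
    rcases B_one _ ((mem_E₁ F.M F.hf F.hf2 c).1 hc) hσ with h1 | h1
    · rw [h1]; decide +kernel
    · rw [h1]; exact p4_B.2
  · apply h2
    refine ⟨c, (mem_E₁ F.M F.hf F.hf2 c).2 ?_, rfl⟩
    have h3 : ∀ g ∈ B', g.σ = 1 → g ∈ B := by decide +kernel
    exact h3 _ ((mem_E₂ F.M F.hf F.hf2 c).1 hc) hσ

theorem Loc.two_powers (F : Loc z Q v ρ f w) {n : G} (hn : ∀ s ∈ SS ρ, n * s * n⁻¹ ∈ SS ρ) :
    n ∈ SS ρ ⊔ zpowers (w : G) := by
  have hX := F.twoX
  have hfS : Finite (SS ρ) := inferInstance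
  have hnN : n ∈ normalizer (SS ρ : Set G) := mem_norm hn
  have hzS : z ∈ SS ρ := hX.two.le₁ hX.two.z_mem.1
  -- `n` centralises `z`
  have hnz : n * z * n⁻¹ = z := by
    rcases hX.two.center _ (hn z hzS) (by
      intro s hs
      have h1 := (mem_normalizer_iff.1 (inv_mem hnN) s).1 hs
      rw [inv_inv] at h1
      have h2 := hX.two.z_comm _ h1
      calc s * (n * z * n⁻¹) = n * (n⁻¹ * s * n * z) * n⁻¹ := by group
        _ = n * (z * (n⁻¹ * s * n)) * n⁻¹ := by rw [h2]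
        _ = n * z * n⁻¹ * s := by group) with h | h
    · exfalso
      apply hX.two.z_ne
      have : z = n⁻¹ * (n * z * n⁻¹) * n := by group
      rw [this, h]; group
    · exact h
  have hnC : n ∈ centralizer ({z} : Set G) := mem_centralizer_singleton_iff.2 (mul_inv_eq_iff_eq_mul.1 hnz)
  have hn' : ∀ x ∈ Tc ρ, (⟨n, hnC⟩ : centralizer ({z} : Set G)) * x * (⟨n, hnC⟩ : centralizer ({z} : Set G))⁻¹ ∈ Tc ρ := by
    intro x hx
    obtain ⟨h1, h2⟩ := mem_SS.1 (hn x ⟨x, hx, rfl⟩)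
    exact h2
  have hw : (w : G) ∈ SS ρ ⊔ zpowers (w : G) := mem_sup_right (mem_zpowers _)
  rcases norm_Tc_cases F.M F.hw hn' with h | h | h
  · exact mem_sup_left (mem_SS.2 ⟨hnC, h⟩)
  · have h1 : n * (w : G) ∈ SS ρ := ⟨_, h, rfl⟩
    have h2 : n = n * w * (w : G)⁻¹ := by group
    rw [h2]
    exact mul_mem (mem_sup_left h1) (inv_mem hw)
  · have h1 : n * (w : G) * (w : G) ∈ SS ρ := ⟨_, h, rfl⟩
    have h2 : n = n * w * w * (w : G)⁻¹ * (w : G)⁻¹ := by group
    rw [h2]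
    exact mul_mem (mul_mem (mem_sup_left h1) (inv_mem hw)) (inv_mem hw)

/-- the case of a subgroup of order `384` -/
theorem Loc.three (F : Loc z Q v ρ f w) (K : Subgroup G) (hK : SS ρ ≤ K) (hCK : ∀ g ∈ K, g * z = z * g → g ∈ SS ρ)
    (hU : ∀ k ∈ K, ∀ u ∈ AA f ⊓ AA (v 3 * f * (v 3)⁻¹), k * u * k⁻¹ ∈ AA f ⊓ AA (v 3 * f * (v 3)⁻¹))
    (hUD : ∀ u ∈ AA f ⊓ AA (v 3 * f * (v 3)⁻¹), u ≠ 1 → ∃ k ∈ K, k * z * k⁻¹ = u) : ∀ x ∈ K, (w : G) * x * (w : G)⁻¹ ∈ K := by
  have hX := F.twoX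
  have hzU := hX.two.z_mem
  have hzz := F.zz
  have hKS : ∀ k ∈ K, ∀ s ∈ SS ρ, (w : G) * (k * s * k⁻¹) * (w : G)⁻¹ ∈ K := by
    intro k hk s hs
    have h1 : ∀ u ∈ AA f ⊓ AA (v 3 * f * (v 3)⁻¹), (k⁻¹ * (w : G) * k) * u = u * (k⁻¹ * (w : G) * k) := by
      intro u hu
      have h2 := F.w_U (hU k hk u hu)
      calc (k⁻¹ * (w : G) * k) * u = k⁻¹ * ((w : G) * (k * u * k⁻¹)) * k := by group
        _ = k⁻¹ * (k * u * k⁻¹ * (w : G)) * k := by rw [h2]
        _ = u * (k⁻¹ * (w : G) * k) := by group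
    have h2 := F.norm (h1 z hzU) (h1 _ F.v4U) hs
    have h3 : (w : G) * (k * s * k⁻¹) * (w : G)⁻¹ = k * ((k⁻¹ * (w : G) * k) * s * (k⁻¹ * (w : G) * k)⁻¹) * k⁻¹ := by group
    rw [h3]
    exact K.mul_mem (K.mul_mem hk (hK h2)) (K.inv_mem hk)
  have hS : ∀ s ∈ SS ρ, (w : G) * s * (w : G)⁻¹ ∈ K := by
    intro s hs
    have := hKS 1 K.one_mem s hs
    rwa [one_mul, inv_one, mul_one] at this
  intro k hk
  by_cases hkz : k * z * k⁻¹ = z
  · exact hS k (hCK k hk (mul_inv_eq_iff_eq_mul.1 hkz))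
  set t := k * z * k⁻¹ with ht
  have htU : t ∈ AA f ⊓ AA (v 3 * f * (v 3)⁻¹) := hU k hk z hzU
  have htt : t * t = 1 := TwoL.sqU hX.two t htU
  have hzt : z * t = t * z := TwoE.comm_of_sq (TwoL.sqU hX.two) hzU htU
  have ht' : z * t ≠ 1 := by
    intro h
    apply hkz
    calc t = (z * z) * t := by rw [hzz, one_mul]
      _ = z * (z * t) := by group
      _ = z := by rw [h, mul_one]
  obtain ⟨k', hk', hk't⟩ := hUD (z * t) (mul_mem hzU htU) ht'
  have ht1 : t ≠ 1 := by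
    intro h
    apply hX.two.z_ne
    have : z = k⁻¹ * t * k := by rw [ht]; group
    rw [this, h]; group
  set u0 := k'⁻¹ * z * k' with hu0
  have hu0U : u0 ∈ AA f ⊓ AA (v 3 * f * (v 3)⁻¹) := by
    have := hU k'⁻¹ (K.inv_mem hk') z hzU
    rwa [inv_inv] at this
  have hu01 : u0 ≠ 1 := by
    intro h
    apply hX.two.z_ne
    have : z = k' * u0 * k'⁻¹ := by rw [hu0]; group
    rw [this, h]; group
  have hu0z : u0 ≠ z := by
    intro h
    apply ht1
    have h1 : k' * z * k'⁻¹ = z := by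
      calc k' * z * k'⁻¹ = k' * u0 * k'⁻¹ := by rw [h]
        _ = z := by rw [hu0]; group
    rw [hk't] at h1
    simpa using h1
  obtain ⟨s, hs, hsu⟩ := TwoL.exists_swap hX.two hu0U hu01 hu0z
  set s' := k' * s * k'⁻¹ with hs'
  have hs'K : s' ∈ K := K.mul_mem (K.mul_mem hk' (hK hs)) (K.inv_mem hk')
  have hs't : s' * z * s'⁻¹ = t := by
    calc s' * z * s'⁻¹ = k' * (s * u0 * s⁻¹) * k'⁻¹ := by rw [hs', hu0]; group
      _ = k' * (z * u0) * k'⁻¹ := by rw [hsu]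
      _ = (k' * z * k'⁻¹) * z := by rw [hu0]; group
      _ = z * t * z := by rw [hk't]
      _ = t * (z * z) := by rw [hzt]; group
      _ = t := by rw [hzz, mul_one]
  have h1 : s'⁻¹ * k ∈ SS ρ := by
    apply hCK _ (K.mul_mem (K.inv_mem hs'K) hk)
    have h2 : s'⁻¹ * k * z * (s'⁻¹ * k)⁻¹ = z := by
      calc s'⁻¹ * k * z * (s'⁻¹ * k)⁻¹ = s'⁻¹ * (k * z * k⁻¹) * s' := by group
        _ = s'⁻¹ * (s' * z * s'⁻¹) * s' := by rw [← ht, hs't]
        _ = z := by group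
    exact mul_inv_eq_iff_eq_mul.1 h2
  have h2 : (w : G) * k * (w : G)⁻¹ = ((w : G) * s' * (w : G)⁻¹) * ((w : G) * (s'⁻¹ * k) * (w : G)⁻¹) := by group
  rw [h2]
  exact K.mul_mem (hKS k' hk' s hs) (hS _ h1)

/-- **The subgroups of odd index are pronormal.** -/
theorem Loc.po (F : Loc z Q v ρ f w) (h256 : ¬ 256 ∣ Nat.card G)
    (h2 : ∀ (K : Subgroup G) (m : ℕ), Nat.card K = 128 * m → m % 64 = 3 → m = 3)
    (h3 : ∀ (K : Subgroup G) (m : ℕ), Nat.card K = 128 * m → m % 16 = 11 → 15 ∣ m →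
      (∃ (g : G) (hg : g * z * g⁻¹ ∈ centralizer ({z} : Set G)),
        (⟨g * z * g⁻¹, hg⟩ : centralizer ({z} : Set G)) ∉ Q) → False) : Cfsg.Agent.H408.Pron.PO G := by
  have : Fact (Nat.Prime 2) := ⟨Nat.prime_two⟩
  have hX := F.twoX
  have hcS : Nat.card (SS ρ) = 128 := hX.two.cardT
  have hfac : (Nat.card G).factorization 2 = 7 := by
    have hG0 : Nat.card G ≠ 0 := Nat.card_pos.ne'
    have e1 : 2 ^ 7 ∣ Nat.card G := by
      rw [show (2 : ℕ) ^ 7 = 128 by norm_num, ← hcS]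
      exact Subgroup.card_subgroup_dvd_card _
    have e2 : ¬ 2 ^ 8 ∣ Nat.card G := by
      rw [show (2 : ℕ) ^ 8 = 256 by norm_num]; exact h256
    rw [Nat.prime_two.pow_dvd_iff_le_factorization hG0] at e1 e2
    omega
  let S : Sylow 2 G := Sylow.ofCard (SS ρ) (by rw [hfac, hcS]; norm_num)
  refine Cfsg.Agent.H408.Pron.PO.of_one S (w : G) ?_ ?_
  · intro n hn
    exact F.two_powers fun s hs => (mem_normalizer_iff.1 hn s).1 hs
  intro K hSK hwK
  have hK : SS ρ ≤ K := hSK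
  have hzS : z ∈ SS ρ := hX.two.le₁ hX.two.z_mem.1
  have hzK : z ∈ K := hK hzS
  have hCK : ∀ g ∈ K, g * z = z * g → g ∈ SS ρ := by
    intro g hg hgz
    by_contra hgS
    apply hwK
    have h4 := over_T F.M F.hw (H := K.comap (centralizer ({z} : Set G)).subtype)
      (fun x hx => hK ⟨x, hx, rfl⟩) (h := ⟨g, mem_centralizer_singleton_iff.2 hgz⟩) hg
      (fun h => hgS (mem_SS.2 ⟨_, h⟩))
    exact h4
  have hwS : ∀ s ∈ SS ρ, (w : G) * s * (w : G)⁻¹ ∈ SS ρ := fun s hs => F.norm F.w_z F.w_v4 hs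
  set A' := (AA f).subgroupOf K with hA'
  set B' := (AA (v 3 * f * (v 3)⁻¹)).subgroupOf K with hB'
  have hDat : Dat (⟨z, hzK⟩ : K) A' B' := by
    have h4 := hX.comap K hK hzK
    have h5 : (SS ρ).subgroupOf K = centralizer ({(⟨z, hzK⟩ : K)} : Set K) := by
      ext x
      rw [mem_subgroupOf, mem_centralizer_singleton_iff]
      constructor
      · intro h
        exact Subtype.ext (hX.two.z_comm _ h)
      · intro h
        exact hCK x x.2 (congrArg Subtype.val h)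
    rw [h5] at h4
    exact h4
  have hcard := card_DD hDat
  rcases cases hDat with hi | ⟨hi, hUD⟩ | ⟨hi, h15, t, htD, ht⟩
  · -- `z` is isolated
    obtain ⟨N, hN, hNo, hNt⟩ := Cfsg.Agent.LThreeMB.ZStar.exists_core (z := (⟨z, hzK⟩ : K)) (by
      refine orderOf_eq_prime (Subtype.ext (by
        show z ^ 2 = 1
        rw [pow_two, F.zz])) (fun h => hX.two.z_ne (congrArg Subtype.val h))) hi
    have hN0 : N.map K.subtype = ⊥ := by
      apply F.no_core (by rwa [Subgroup.card_map_of_injective (Subgroup.subtype_injective _)])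
      · rintro s hs _ ⟨n, hn, rfl⟩
        exact ⟨⟨s, hK hs⟩ * n * (⟨s, hK hs⟩ : K)⁻¹, hN.conj_mem n hn _, rfl⟩
      · rintro _ ⟨n, hn, rfl⟩ hnz
        have h4 : (n : G) ∈ SS ρ := hCK n n.2 hnz
        have h5 : (n : G) ∈ N.map K.subtype := ⟨n, hn, rfl⟩
        exact odd_eq_one (k := 7) (by rwa [Subgroup.card_map_of_injective (Subgroup.subtype_injective _)]) h5
          (by rw [hcS]; norm_num) h4
    have hN1 : N = ⊥ := (Subgroup.map_eq_bot_iff_of_injective N (Subgroup.subtype_injective _)).1 hN0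
    rw [hN1, bot_sup_eq] at hNt
    intro x hx
    have h4 : (⟨x, hx⟩ : K) ∈ centralizer ({(⟨z, hzK⟩ : K)} : Set K) := by rw [hNt]; trivial
    have h5 := congrArg Subtype.val (mem_centralizer_singleton_iff.1 h4)
    exact hK (hwS x (hCK x hx h5))
  · -- the class of `z` is `U \ {1}`
    have hm := h2 K _ hcard hi
    have h3' : Nat.card {u : K // u ∈ A' ⊓ B' ∧ u ≠ 1} = 3 := by
      have h1 : Nat.card {u : (A' ⊓ B' : Subgroup K) // u ≠ 1} = 3 := by
        classical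
        have hF := Fintype.ofFinite (A' ⊓ B' : Subgroup K)
        rw [Nat.card_eq_fintype_card, Fintype.card_subtype_compl, Fintype.card_subtype_eq, ← Nat.card_eq_fintype_card,
          hDat.two.inter]
      rw [← h1]
      exact Nat.card_congr ⟨fun u => ⟨⟨u.1, u.2.1⟩, fun h => u.2.2 (congrArg Subtype.val h)⟩,
        fun u => ⟨u.1.1, u.1.2, fun h => u.2 (Subtype.ext h)⟩, fun u => rfl, fun u => rfl⟩
    have hEq : {u : K | u ∈ A' ⊓ B' ∧ u ≠ 1} = DD (⟨z, hzK⟩ : K) := by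
      apply Set.eq_of_subset_of_ncard_le (ht := Set.toFinite _)
      · rintro u ⟨hu, hu1⟩
        exact hUD u hu hu1
      · have e1 : (DD (⟨z, hzK⟩ : K)).ncard = 3 := hm
        have e2 : {u : K | u ∈ A' ⊓ B' ∧ u ≠ 1}.ncard = 3 := h3'
        rw [e1, e2]
    apply F.three K hK hCK
    · intro k hk u hu
      by_cases hu1 : u = 1
      · rw [hu1]
        have : k * 1 * k⁻¹ = 1 := by group
        rw [this]; exact one_mem _
      have huK : u ∈ K := hK (hX.two.le₁ hu.1)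
      have h4 : (⟨u, huK⟩ : K) ∈ DD (⟨z, hzK⟩ : K) := hUD _ hu (fun h => hu1 (congrArg Subtype.val h))
      have h5 := DD_conj _ (⟨k, hk⟩ : K) _ h4
      rw [← hEq] at h5
      exact h5.1
    · intro u hu hu1
      have huK : u ∈ K := hK (hX.two.le₁ hu.1)
      obtain ⟨k, hk⟩ := hUD (⟨u, huK⟩ : K) hu (fun h => hu1 (congrArg Subtype.val h))
      exact ⟨k, k.2, congrArg Subtype.val hk⟩
  · exfalso
    obtain ⟨g, hg⟩ := htD
    have hgt : (g : G) * z * (g : G)⁻¹ = t := congrArg Subtype.val hg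
    have htC : (t : G) ∈ centralizer ({z} : Set G) := by
      apply mem_centralizer_singleton_iff.2
      rcases ht with ⟨h4, -⟩ | ⟨h4, -⟩
      · exact TwoE.comm_of_sq hX.two.sq₁ h4 hX.two.z_mem.1
      · exact TwoE.comm_of_sq hX.two.sq₂ h4 hX.two.z_mem.2
    refine h3 K _ hcard hi h15 ⟨g, by rw [hgt]; exact htC, ?_⟩
    have h5 := F.notQ (t := (t : G)) ht htC
    intro h6
    apply h5
    have h7 : (⟨(g : G) * z * (g : G)⁻¹, by rw [hgt]; exact htC⟩ : centralizer ({z} : Set G)) = ⟨t, htC⟩ := Subtype.ext hgt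
    rwa [h7] at h6

end G

end Cfsg.Agent.H223.J3Pron
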