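import Cfsg.Agent.H223.J3Pron.FusThree
import Cfsg.Agent.H788.SF.JModel

/-!
# Overgroups of the Sylow 2-subgroup of `J₂`, `J₃`: the model of the involution centralizer (helper223)
-/

set_option autoImplicit false

namespace Cfsg.Agent.H223.J3Pron

open Subgroup Cfsg.Agent.H788.SF Cfsg.Agent.H788.SF.JModel
open Cfsg.Agent.J2Type.Model Cfsg.Agent.J2Type.CStruct Cfsg.Agent.J2Type.SPFacts Cfsg.Agent.J3Type.Loc
open Cfsg.Agent.J3Type.OneClass

theorem V4_fix : ∀ a ∈ V4, ∀ i : Fin 5, i ≠ 4 → a i = i → a = 1 := by decide +kernel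

theorem V4_norm : ∀ σ : Equiv.Perm (Fin 5), σ 4 = 4 → ∀ a ∈ V4, σ * a * σ⁻¹ ∈ V4 := by decide +kernel

theorem norm_cases : ∀ σ : Equiv.Perm (Fin 5), Equiv.Perm.sign σ = 1 → (∀ a ∈ V4, σ * a * σ⁻¹ ∈ V4) →
    σ ∈ V4 ∨ σ * τ3 ∈ V4 ∨ σ * τ3 * τ3 ∈ V4 := by decide +kernel

theorem word_cases : ∀ σ : Equiv.Perm (Fin 5), Equiv.Perm.sign σ = 1 → σ ∉ V4 → ∃ a ∈ V4, ∃ b ∈ V4,
    σ * a * σ * b * σ⁻¹ * τ3 ∈ V4 ∨ σ * a * σ * b * σ⁻¹ * τ3 * τ3 ∈ V4 := by decide +kernel

section C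

variable {C : Type*} [Group C] {Q : Subgroup C} {z : C} {v : Fin 5 → C} {ρ : C →* SP}

theorem sq_Q (M : IsModel Q z v ρ) {c : C} (hc : c ∈ Q) : c * c = 1 ∨ c * c = z := by
  apply (M.ker _).1
  have h1 := (M.mem_Q c).1 hc
  rw [map_mul]
  apply SP.ext
  · rw [mul_σ, h1]; rfl
  · funext i
    rw [mul_s, h1]
    show (ρ c).s i + (ρ c).s i = 0
    exact CharTwo.add_self_eq_zero _

theorem twoX (M : IsModel Q z v ρ) {f : C} (hf : ρ f = g0) (hf2 : f * f = 1) :
    TwoX (Tc ρ) z (centralizer ({f} : Set C)) (centralizer ({v 3 * f * (v 3)⁻¹} : Set C)) := by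
  refine ⟨twoE M hf hf2, ?_⟩
  intro t ht htt hA hB
  have htQ : t ∈ Q := by
    rcases invol_cases M hf hf2 ht htt with h | h | h
    · exact h
    · exact absurd h hA
    · exact absurd h hB
  have ht1 : t ≠ 1 := by rintro rfl; exact hA (one_mem _)
  rcases invol_Q M htQ htt ht1 with rfl | ⟨a, i, rfl⟩
  · exact absurd (twoE M hf hf2).z_mem.1 hA
  · have hi : i ≠ 4 := by
      rintro rfl
      apply hA
      rw [mem_E₁ M hf hf2, map_mul, rho_zp M, one_mul, rho_v M 4]
      exact p4_B.1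
    constructor
    · obtain ⟨j, k, hjk, hji, hki⟩ := jk_aux i
      refine ⟨v j * v k, Q_le M (Q.mul_mem (M.v_mem j) (M.v_mem k)), ?_, vv_sq M hjk⟩
      have h1 : v j * v k * v i = v i * (v j * v k) := by
        calc v j * v k * v i = v j * (v k * v i) := by group
          _ = v j * (z * (v i * v k)) := by rw [M.v_anti k i hki]
          _ = (v j * z) * (v i * v k) := by group
          _ = (z * v j) * (v i * v k) := by rw [M.z_comm]
          _ = z * (v j * v i) * v k := by group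
          _ = z * (z * (v i * v j)) * v k := by rw [M.v_anti j i hji]
          _ = (z * z) * (v i * (v j * v k)) := by group
          _ = v i * (v j * v k) := by rw [M.z_sq, one_mul]
      exact ((comm_zp_mul M a (v i) (v j * v k)).2 h1.symm).symm
    · intro c hc hct
      apply sq_Q M
      have h1 : v i * c = c * v i := (comm_zp_mul M a (v i) c).1 hct.symm
      have h2 : c * v i * c⁻¹ = zp z 0 * v i := by
        rw [zp_zero, one_mul, ← h1, mul_inv_cancel_right]
      rw [M.conj] at h2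
      have h3 := (M.v_inj _ _ _ _ h2).2
      rw [M.mem_Q]
      exact V4_fix _ hc i hi h3

/-- elements fixing the letter `4` normalise `T` -/
theorem norm_Tc {c x : C} (hc : (ρ c).σ 4 = 4) (hx : x ∈ Tc ρ) : c * x * c⁻¹ ∈ Tc ρ := by
  rw [mem_Tc] at hx ⊢
  rw [map_mul, map_mul, map_inv, mul_σ, mul_σ, inv_σ]
  exact V4_norm _ hc _ hx

theorem exists_V4 (M : IsModel Q z v ρ) {a : Equiv.Perm (Fin 5)} (ha : a ∈ V4) : ∃ c ∈ Tc ρ, (ρ c).σ = a := by
  obtain ⟨c, hc⟩ := (M.range ⟨a, fun _ => 0⟩).2 ⟨V4_sign a ha, by simp⟩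
  refine ⟨c, ?_, by rw [hc]⟩
  rw [mem_Tc, hc]; exact ha

theorem norm_Tc_cases (M : IsModel Q z v ρ) {w : C} (hw : ρ w = g3) {n : C} (hn : ∀ x ∈ Tc ρ, n * x * n⁻¹ ∈ Tc ρ) :
    n ∈ Tc ρ ∨ n * w ∈ Tc ρ ∨ n * w * w ∈ Tc ρ := by
  have h1 := norm_cases (ρ n).σ ((M.range (ρ n)).1 ⟨n, rfl⟩).1 (by
    intro a ha
    obtain ⟨c, hc, rfl⟩ := exists_V4 M ha
    have h2 := hn c hc
    rw [mem_Tc, map_mul, map_mul, map_inv, mul_σ, mul_σ, inv_σ] at h2
    exact h2)
  have e2 : (ρ (n * w)).σ = (ρ n).σ * τ3 := by rw [map_mul, hw, mul_σ]; rfl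
  have e3 : (ρ (n * w * w)).σ = (ρ n).σ * τ3 * τ3 := by rw [map_mul, hw, mul_σ, e2]; rfl
  rw [mem_Tc, mem_Tc, mem_Tc, e2, e3]
  exact h1

/-- a subgroup of `C` containing `T` properly contains an element `w` over `g3` -/
theorem over_T (M : IsModel Q z v ρ) {w : C} (hw : ρ w = g3) {H : Subgroup C} (hT : Tc ρ ≤ H) {h : C} (hh : h ∈ H)
    (hhT : h ∉ Tc ρ) : w ∈ H := by
  obtain ⟨a, ha, b, hb, hab⟩ := word_cases (ρ h).σ ((M.range (ρ h)).1 ⟨h, rfl⟩).1 hhT
  obtain ⟨x, hx, rfl⟩ := exists_V4 M ha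
  obtain ⟨y, hy, rfl⟩ := exists_V4 M hb
  set g := h * x * h * y * h⁻¹ with hg
  have hgH : g ∈ H := H.mul_mem (H.mul_mem (H.mul_mem (H.mul_mem hh (hT hx)) hh) (hT hy)) (H.inv_mem hh)
  have hgσ : (ρ g).σ = (ρ h).σ * (ρ x).σ * (ρ h).σ * (ρ y).σ * (ρ h).σ⁻¹ := by
    rw [hg, map_mul, map_mul, map_mul, map_mul, map_inv, mul_σ, mul_σ, mul_σ, mul_σ, inv_σ]
  rcases hab with h1 | h1
  · have h2 : g * w ∈ Tc ρ := by
      rw [mem_Tc, map_mul, mul_σ, hgσ, hw]; exact h1
    have h3 : w = g⁻¹ * (g * w) := by group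
    rw [h3]
    exact H.mul_mem (H.inv_mem hgH) (hT h2)
  · have h2 : g * w * w ∈ Tc ρ := by
      rw [mem_Tc, map_mul, map_mul, mul_σ, mul_σ, hgσ, hw]; exact h1
    have h3 : w * w ∈ H := by
      have h4 : w * w = g⁻¹ * (g * w * w) := by group
      rw [h4]
      exact H.mul_mem (H.inv_mem hgH) (hT h2)
    have h5 : w * w * w ∈ H := by
      apply hT
      rw [mem_Tc, map_mul, map_mul, hw, mul_σ, mul_σ]
      decide +kernel
    have h6 : w = (w * w)⁻¹ * (w * w * w) := by group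
    rw [h6]
    exact H.mul_mem (H.inv_mem h3) h5

/-- an element of odd order commuting with half of `Q` is trivial -/
theorem odd_cent [Finite C] (M : IsModel Q z v ρ) (hQ : Nat.card Q = 32) {U : Subgroup C} (hU : U ≤ Q) (hU16 : 16 ≤ Nat.card U)
    {r : C} (hr : Odd (orderOf r)) (hrU : ∀ q ∈ U, r * q = q * r) : r = 1 := by
  have hQn : Q.Normal := normal_Q M
  obtain ⟨m, hm⟩ := hr
  -- `F`: the centralizer of `r` in `Q`
  set F : Subgroup C := Q ⊓ centralizer ({r} : Set C) with hF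
  have hUF : U ≤ F := le_inf hU fun q hq => mem_centralizer_singleton_iff.2 (hrU q hq).symm
  have hF16 : 16 ≤ Nat.card F := hU16.trans (Subgroup.card_le_of_le hUF)
  have hcent : ∀ q ∈ Q, r * q = q * r := by
    intro q hq
    by_cases hqF : q ∈ F
    · exact (mem_centralizer_singleton_iff.1 hqF.2).symm
    -- the index of `F` in `Q` is two
    have hidx : (F.subgroupOf Q).index = 2 := by
      have h1 := Subgroup.card_mul_index (F.subgroupOf Q)
      rw [Nat.card_congr (Subgroup.subgroupOfEquivOfLe (inf_le_left : F ≤ Q)).toEquiv, hQ] at h1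
      have h2 : (F.subgroupOf Q).index ≠ 1 := by
        intro h
        rw [Subgroup.index_eq_one, Subgroup.subgroupOf_eq_top] at h
        exact hqF (h hq)
      have h3 : (F.subgroupOf Q).index ≠ 0 := by
        intro h; rw [h] at h1; omega
      have h4 : (F.subgroupOf Q).index ≤ 2 := by
        by_contra h5
        have h6 : 16 * 3 ≤ Nat.card F * (F.subgroupOf Q).index := Nat.mul_le_mul hF16 (by omega)
        rw [h1] at h6
        omega
      omega
    have hq1 : r * q * r⁻¹ ∈ Q := hQn.conj_mem q hq r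
    have hq1F : r * q * r⁻¹ ∉ F := by
      intro h
      apply hqF
      refine ⟨hq, mem_centralizer_singleton_iff.2 ?_⟩
      have h1 := mem_centralizer_singleton_iff.1 h.2
      calc q * r = r⁻¹ * (r * q * r⁻¹ * r) * r := by group
        _ = r⁻¹ * (r * (r * q * r⁻¹)) * r := by rw [h1]
        _ = r * q := by group
    have hc : r * q * r⁻¹ * q⁻¹ ∈ F := by
      have h1 := (Subgroup.mul_mem_iff_of_index_two hidx (a := ⟨_, hq1⟩) (b := ⟨q⁻¹, Q.inv_mem hq⟩)).2 (by
        rw [Subgroup.mem_subgroupOf, Subgroup.mem_subgroupOf]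
        exact ⟨fun h => absurd h hq1F, fun h => absurd (by
          have := F.inv_mem h
          rwa [inv_inv] at this) hqF⟩)
      exact h1
    set c := r * q * r⁻¹ * q⁻¹ with hcdef
    have hrc : Commute r c := (mem_centralizer_singleton_iff.1 hc.2).symm
    have hk : ∀ k : ℕ, r ^ k * q * (r ^ k)⁻¹ = c ^ k * q := by
      intro k
      induction k with
      | zero => simp
      | succ k ih =>
        have h1 : r * q * r⁻¹ = c * q := by rw [hcdef]; group
        calc r ^ (k + 1) * q * (r ^ (k + 1))⁻¹ = r ^ k * (r * q * r⁻¹) * (r ^ k)⁻¹ := by rw [pow_succ]; group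
          _ = r ^ k * (c * q) * (r ^ k)⁻¹ := by rw [h1]
          _ = (r ^ k * c) * q * (r ^ k)⁻¹ := by group
          _ = (c * r ^ k) * q * (r ^ k)⁻¹ := by rw [(hrc.pow_left k).eq]
          _ = c * (r ^ k * q * (r ^ k)⁻¹) := by group
          _ = c * (c ^ k * q) := by rw [ih]
          _ = c ^ (k + 1) * q := by rw [pow_succ']; group
    have h1 := hk (orderOf r)
    rw [pow_orderOf_eq_one, one_mul, inv_one, mul_one] at h1
    have h2 : c ^ orderOf r = 1 := by
      have h3 : c ^ orderOf r * q = 1 * q := by rw [← h1, one_mul]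
      exact mul_right_cancel h3
    have h3 : c ^ 32 = 1 := by
      have := Subgroup.orderOf_dvd_natCard Q hc.1
      rw [hQ] at this
      exact orderOf_dvd_iff_pow_eq_one.1 this
    have h4 : orderOf c ∣ 1 := by
      have h5 : Nat.Coprime (orderOf r) 32 := by
        rw [hm, show (32 : ℕ) = 2 ^ 5 by norm_num]
        apply Nat.Coprime.pow_right
        rw [Nat.coprime_comm, Nat.coprime_two_left]
        exact ⟨m, rfl⟩
      rw [← h5.gcd_eq_one]
      exact Nat.dvd_gcd (orderOf_dvd_of_pow_eq_one h2) (orderOf_dvd_of_pow_eq_one h3)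
    have h5 : c = 1 := orderOf_eq_one_iff.1 (Nat.dvd_one.1 h4)
    rw [hcdef, mul_inv_eq_one, mul_inv_eq_iff_eq_mul] at h5
    exact h5
  rcases Cfsg.Agent.J2Type.Fusion.eq_of_comm_v M (fun i => hcent _ (M.v_mem i)) with h | h
  · exact h
  · exfalso
    have h1 : r * r = 1 := by rw [h]; exact M.z_sq
    have h2 : orderOf r ∣ 2 := orderOf_dvd_of_pow_eq_one (by rw [pow_two]; exact h1)
    have h3 : r ≠ 1 := by rw [h]; exact M.z_ne
    rcases (Nat.dvd_prime Nat.prime_two).1 h2 with h4 | h4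
    · exact h3 (orderOf_eq_one_iff.1 h4)
    · omega

end C

end Cfsg.Agent.H223.J3Pron
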