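import Mathlib
import Cfsg.Agent.H788.SF.TwoE

/-!
# Overgroups of the Sylow 2-subgroup of `J₂`, `J₃`: the abstract fusion argument (helper223)

`TwoX T z A B`: the structure of a Sylow 2-subgroup `T` of `J₂` or `J₃` (helper788's `TwoE`) and the involutions outside
`A ∪ B`.
-/

set_option autoImplicit false

namespace Cfsg.Agent.H223.J3Pron

open Subgroup Cfsg.Agent.H788.SF

section burn

variable {L : Type*} [Group L] [Finite L]

/-- Burnside's count for the conjugation action on an invariant set -/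
theorem burn (D : Set L) (hD : ∀ g x, x ∈ D → g * x * g⁻¹ ∈ D) (H : Subgroup L) (c : ℕ)
    (h : ∀ g ∈ H, g ≠ 1 → Nat.card {x : L // x ∈ D ∧ g * x = x * g} = c) :
    Nat.card H ∣ Nat.card D + (Nat.card H - 1) * c := by
  classical
  let _ : MulAction H D :=
    { smul := fun g x => ⟨(g : L) * x * (g : L)⁻¹, hD g x x.2⟩
      one_smul := fun x => Subtype.ext (by show (1 : L) * x * (1 : L)⁻¹ = x; group)
      mul_smul := fun g k x => Subtype.ext (by
        show ((g * k : H) : L) * x * ((g * k : H) : L)⁻¹ = g * (k * x * (k : L)⁻¹) * (g : L)⁻¹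
        push_cast; group) }
  have hfD : Finite D := inferInstance
  let _ := Fintype.ofFinite D
  let _ := Fintype.ofFinite H
  have key := MulAction.sum_card_fixedBy_eq_card_orbits_mul_card_group H D
  have hsum : ∑ a : H, Fintype.card (MulAction.fixedBy D a) = Nat.card D + (Nat.card H - 1) * c := by
    have h1 : ∀ a : H, Fintype.card (MulAction.fixedBy D a) = if a = 1 then Nat.card D else c := by
      intro a
      by_cases ha : a = 1
      · subst ha
        rw [if_pos rfl, ← Nat.card_eq_fintype_card]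
        refine Nat.card_congr ⟨fun x => x.1, fun x => ⟨x, ?_⟩, fun x => rfl, fun x => rfl⟩
        rw [MulAction.mem_fixedBy, one_smul]
      · rw [if_neg ha, ← h a a.2 (fun h1 => ha (Subtype.ext h1)), ← Nat.card_eq_fintype_card]
        refine Nat.card_congr ⟨fun x => ⟨x.1, x.1.2, ?_⟩, fun x => ⟨⟨x.1, x.2.1⟩, ?_⟩, fun x => rfl, fun x => rfl⟩
        · have h2 : (a : L) * x.1 * (a : L)⁻¹ = x.1 := congrArg Subtype.val x.2
          exact mul_inv_eq_iff_eq_mul.1 h2
        · rw [MulAction.mem_fixedBy]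
          exact Subtype.ext (show (a : L) * x.1 * (a : L)⁻¹ = x.1 from mul_inv_eq_iff_eq_mul.2 x.2.2)
    rw [Finset.sum_congr rfl fun a _ => h1 a, Finset.sum_ite, Finset.sum_const, Finset.sum_const,
      Finset.filter_eq' Finset.univ (1 : H), if_pos (Finset.mem_univ _), Finset.card_singleton, one_smul,
      Finset.filter_not, Finset.filter_eq' Finset.univ (1 : H), if_pos (Finset.mem_univ _),
      Finset.card_sdiff_of_subset (Finset.subset_univ _), Finset.card_singleton, Finset.card_univ, smul_eq_mul,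
      Nat.card_eq_fintype_card (α := H)]
  rw [hsum] at key
  rw [key, Nat.card_eq_fintype_card (α := H)]
  exact dvd_mul_left _ _

end burn

/-- a four-group and two of its involutions -/
theorem four {L : Type*} [Group L] {U : Subgroup L} (h4 : Nat.card U = 4) (sq : ∀ u ∈ U, u * u = 1) {a b : L} (ha : a ∈ U)
    (hb : b ∈ U) (ha1 : a ≠ 1) (hb1 : b ≠ 1) (hab : a ≠ b) {w : L} (hw : w ∈ U) :
    w = 1 ∨ w = a ∨ w = b ∨ w = a * b := by
  classical
  have hfin : Finite U := Nat.finite_of_card_ne_zero (by omega)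
  let _ := Fintype.ofFinite U
  have haa := sq a ha
  have h1 : (({1, ⟨a, ha⟩, ⟨b, hb⟩, ⟨a * b, U.mul_mem ha hb⟩} : Finset U)).card = 4 := by
    rw [Finset.card_insert_of_notMem, Finset.card_insert_of_notMem, Finset.card_insert_of_notMem, Finset.card_singleton]
    · rw [Finset.mem_singleton]
      intro h
      have h2 : b = a * b := congrArg Subtype.val h
      exact ha1 (by simpa using h2)
    · rw [Finset.mem_insert, Finset.mem_singleton]
      rintro (h | h)
      · exact hab (congrArg Subtype.val h)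
      · have h2 : a = a * b := congrArg Subtype.val h
        exact hb1 (by simpa using h2)
    · rw [Finset.mem_insert, Finset.mem_insert, Finset.mem_singleton]
      rintro (h | h | h)
      · exact ha1 (congrArg Subtype.val h).symm
      · exact hb1 (congrArg Subtype.val h).symm
      · have h2 : 1 = a * b := congrArg Subtype.val h
        apply hab
        calc a = a * (a * b) := by rw [← h2, mul_one]
          _ = b := by rw [← mul_assoc, haa, one_mul]
  have h2 : ({1, ⟨a, ha⟩, ⟨b, hb⟩, ⟨a * b, U.mul_mem ha hb⟩} : Finset U) = Finset.univ := by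
    apply Finset.eq_univ_of_card
    rw [h1, ← Nat.card_eq_fintype_card, h4]
  have h3 : (⟨w, hw⟩ : U) ∈ ({1, ⟨a, ha⟩, ⟨b, hb⟩, ⟨a * b, U.mul_mem ha hb⟩} : Finset U) := by
    rw [h2]; exact Finset.mem_univ _
  simp only [Finset.mem_insert, Finset.mem_singleton] at h3
  rcases h3 with h | h | h | h
  · exact Or.inl (congrArg Subtype.val h)
  · exact Or.inr (Or.inl (congrArg Subtype.val h))
  · exact Or.inr (Or.inr (Or.inl (congrArg Subtype.val h)))
  · exact Or.inr (Or.inr (Or.inr (congrArg Subtype.val h)))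

namespace TwoL

variable {L : Type*} [Group L] {T : Subgroup L} {z : L} {A B : Subgroup L}

/-- the centralizer in `T` of an element of `A` outside `B` -/
theorem cent (h : TwoE T z A B) {t c : L} (ht : t ∈ A) (ht2 : t ∉ B) (hc : c ∈ T) (hct : c * t = t * c) : c ∈ A := by
  rcases h.cases c hc with ⟨a, ha, b, hb, rfl⟩ | ⟨h1, -, -⟩
  · have h2 : t * b = b * t := by
      have h4 := TwoE.comm_of_sq h.sq₁ ha ht
      apply mul_left_cancel (a := a)
      calc a * (t * b) = a * t * b := by group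
        _ = t * a * b := by rw [h4]
        _ = t * (a * b) := by group
        _ = a * b * t := hct.symm
        _ = a * (b * t) := by group
    exact A.mul_mem ha ((h.comm t ht b hb h2).resolve_left ht2)
  · exfalso
    apply ht2
    have h2 := h1 t ht
    rwa [hct, mul_inv_cancel_right] at h2

theorem J_le (h : TwoE T z A B) : A ⊔ B ≤ T := sup_le h.le₁ h.le₂

/-- `T` normalises `A ⊓ B` -/
theorem conj_inf (h : TwoE T z A B) {t u : L} (ht : t ∈ T) (hu : u ∈ A ⊓ B) : t * u * t⁻¹ ∈ A ⊓ B := by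
  by_cases htJ : t ∈ A ⊔ B
  · exact ⟨h.conj_mem₁ htJ hu.1, h.conj_mem₂ htJ hu.2⟩
  · have h1 := h.outer ht htJ
    exact ⟨h1.2.1 u hu.2, h1.1 u hu.1⟩

theorem sqU (h : TwoE T z A B) : ∀ u ∈ A ⊓ B, u * u = 1 := fun u hu => h.sq₁ u hu.1

theorem zz (h : TwoE T z A B) : z * z = 1 := h.sq₁ z h.z_mem.1

theorem fourz (h : TwoE T z A B) {u w : L} (hu : u ∈ A ⊓ B) (hu1 : u ≠ 1) (huz : u ≠ z) (hw : w ∈ A ⊓ B) :
    w = 1 ∨ w = z ∨ w = u ∨ w = z * u :=
  four h.inter (sqU h) h.z_mem hu h.z_ne hu1 (Ne.symm huz) hw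

/-- the other involutions of `A ⊓ B` are swapped by `T` -/
theorem exists_swap (h : TwoE T z A B) {u : L} (hu : u ∈ A ⊓ B) (hu1 : u ≠ 1) (huz : u ≠ z) :
    ∃ s ∈ T, s * u * s⁻¹ = z * u := by
  have huT : u ∈ T := h.le₁ hu.1
  have h1 : ∃ s ∈ T, s * u ≠ u * s := by
    by_contra hcon
    push Not at hcon
    rcases h.center u huT hcon with h2 | h2
    · exact hu1 h2
    · exact huz h2
  obtain ⟨s, hs, hsu⟩ := h1
  refine ⟨s, hs, ?_⟩
  rcases fourz h hu hu1 huz (conj_inf h hs hu) with h2 | h2 | h2 | h2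
  · exfalso
    apply hu1
    have : u = s⁻¹ * (s * u * s⁻¹) * s := by group
    rw [this, h2]; group
  · exfalso
    apply huz
    have h3 : u = s⁻¹ * (s * u * s⁻¹) * s := by group
    rw [h3, h2]
    have h4 := h.z_comm s⁻¹ (T.inv_mem hs)
    rw [h4]; group
  · exact absurd (mul_inv_eq_iff_eq_mul.1 h2) hsu
  · exact h2

theorem exists_outer (h : TwoE T z A B) : ∃ s ∈ T, s ∉ A ⊔ B := by
  obtain ⟨t, ht, h1⟩ := h.swap
  refine ⟨t, ht, ?_⟩
  intro hJ
  apply h.ne
  have hfin := h.finite₂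
  have hfin' := h.finite₁
  apply Subgroup.eq_of_le_of_card_ge _ (by rw [h.card₁, h.card₂])
  intro x hx
  have h2 := h.conj_mem₁ ((A ⊔ B).inv_mem hJ) hx
  have h3 := h1 _ h2
  have h4 : t * (t⁻¹ * x * t⁻¹⁻¹) * t⁻¹ = x := by group
  rwa [h4] at h3

theorem card_J (h : TwoE T z A B) : Nat.card (A ⊔ B : Subgroup L) = 64 := by
  obtain ⟨s, hs, hsJ⟩ := exists_outer h
  have h1 : ((A ⊔ B).subgroupOf T).index = 2 := by
    rw [Subgroup.index_eq_two_iff]
    refine ⟨⟨s, hs⟩, fun b => ?_⟩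
    rw [Subgroup.mem_subgroupOf, Subgroup.mem_subgroupOf]
    by_cases hb : (b : L) ∈ A ⊔ B
    · refine Or.inr ⟨hb, fun h2 => hsJ ?_⟩
      have h3 : s = (b : L)⁻¹ * ((b * ⟨s, hs⟩ : T) : L) := by
        show s = (b : L)⁻¹ * ((b : L) * s); group
      rw [h3]
      exact mul_mem (inv_mem hb) h2
    · exact Or.inl ⟨h.mul_outer b.2 hs hb hsJ, hb⟩
  have h2 := Subgroup.card_mul_index ((A ⊔ B).subgroupOf T)
  rw [h1, h.cardT, Nat.card_congr (Subgroup.subgroupOfEquivOfLe (J_le h)).toEquiv] at h2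
  omega

/-- the conjugates of an element of `A` outside `B` under `B` form a coset of `A ⊓ B` -/
theorem orb (h : TwoE T z A B) {a u : L} (ha : a ∈ A) (haB : a ∉ B) (hu : u ∈ A ⊓ B) :
    ∃ b ∈ B, b * a * b⁻¹ = u * a := by
  have hfB := h.finite₂
  have hcomm : ∀ b ∈ B, ∀ w ∈ A ⊓ B, b * w = w * b := fun b hb w hw => TwoE.comm_of_sq h.sq₂ hb hw.2
  have hbr : ∀ b ∈ B, b * a * b⁻¹ * a⁻¹ ∈ A ⊓ B := by
    intro b hb
    have h1 := (A ⊓ B).inv_mem (h.br a ha b hb)
    have h2 : (a * b * a⁻¹ * b⁻¹)⁻¹ = b * a * b⁻¹ * a⁻¹ := by group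
    rwa [h2] at h1
  let f : B →* L :=
    { toFun := fun b => (b : L) * a * (b : L)⁻¹ * a⁻¹
      map_one' := by show (1 : L) * a * (1 : L)⁻¹ * a⁻¹ = 1; group
      map_mul' := by
        intro b b'
        show ((b * b' : B) : L) * a * ((b * b' : B) : L)⁻¹ * a⁻¹ = (b * a * (b : L)⁻¹ * a⁻¹) * (b' * a * (b' : L)⁻¹ * a⁻¹)
        have h3 := hbr b' b'.2
        have h5 := hcomm b b.2 _ h3
        calc ((b * b' : B) : L) * a * ((b * b' : B) : L)⁻¹ * a⁻¹
            = b * (b' * a * (b' : L)⁻¹ * a⁻¹) * a * (b : L)⁻¹ * a⁻¹ := by push_cast; group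
          _ = (b' * a * (b' : L)⁻¹ * a⁻¹) * (b * a * (b : L)⁻¹ * a⁻¹) := by rw [h5]; group
          _ = (b * a * (b : L)⁻¹ * a⁻¹) * (b' * a * (b' : L)⁻¹ * a⁻¹) :=
              TwoE.comm_of_sq (sqU h) h3 (hbr b b.2) }
  have hker : f.ker = (A ⊓ B).subgroupOf B := by
    ext b
    rw [MonoidHom.mem_ker, Subgroup.mem_subgroupOf]
    show (b : L) * a * (b : L)⁻¹ * a⁻¹ = 1 ↔ _
    constructor
    · intro h1
      have h2 : (b : L) * a = a * b := by
        have := mul_inv_eq_one.1 h1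
        exact mul_inv_eq_iff_eq_mul.1 this
      exact ⟨(h.comm a ha b b.2 h2.symm).resolve_left haB, b.2⟩
    · intro h1
      have h2 := TwoE.comm_of_sq h.sq₁ h1.1 ha
      rw [h2]; group
  have hck : Nat.card f.ker = 4 := by
    rw [hker, Nat.card_congr (Subgroup.subgroupOfEquivOfLe (inf_le_right : A ⊓ B ≤ B)).toEquiv, h.inter]
  have hrange : f.range = A ⊓ B := by
    have hfU : Finite (A ⊓ B : Subgroup L) := Nat.finite_of_card_ne_zero (by rw [h.inter]; norm_num)
    apply Subgroup.eq_of_le_of_card_ge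
    · rintro _ ⟨b, rfl⟩
      exact hbr b b.2
    · have h1 := Subgroup.card_mul_index f.ker
      rw [Subgroup.index_ker, hck, h.card₂] at h1
      rw [h.inter]; omega
  have hu' : u ∈ f.range := by rw [hrange]; exact hu
  obtain ⟨b, hb⟩ := hu'
  refine ⟨b, b.2, ?_⟩
  have h1 : (b : L) * a * (b : L)⁻¹ * a⁻¹ = u := hb
  rw [← h1]; group

end TwoL

end Cfsg.Agent.H223.J3Pron
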